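import Cfsg.Agent.H633.Ore.Co2Mdl
import Cfsg.Agent.H612.Ore.CoTwo23
import Cfsg.Agent.H903.Ore.Baby

/-!
# Every `l ≠ 1` in `Co2` is `[a, b]` with an element of order 23 in `⟨a, b⟩` (helper612)

The kernel check of the table `CoTwo23.T` on the model `H633.Ore.Co2.M`; the class cover is the hypothesis `hc`.
-/

set_option autoImplicit false
set_option maxRecDepth 100000

namespace Cfsg.Agent.H612.Ore.CoTwoF

open Cfsg Cfsg.Agent.H633.Ore

theorem chk : CoTwo23.chkAll Co2.GG (idL 22) CoTwo23.T = true := by decide +kernel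

theorem exists_cd : ∃ y : H843.IMC.Co2B.Y, Co2.M.cd y = 1 := by
  obtain ⟨y, hy⟩ := Co2.M.idx_surj 0 (by show 0 < 2300; norm_num)
  refine ⟨y, ?_⟩
  rw [← Co2.M.ent_idx, hy]
  exact Co2.ent_zero

/-- **`OreF23` from the class cover** -/
theorem oreF23_of_cover
    (hc : ∀ g : Spor.Co2, ∃ w ∈ H68.Ore.Co2Words.L.map H68.Ore.Words.cw,
      IsConj (H68.Ore.Words.wd Co2.tt w) g ∨ IsConj (H68.Ore.Words.wd Co2.tt w)⁻¹ g) : H903.Ore.Baby.OreF23 :=
  fun l hl => CoTwo23.oreF23_of Co2.M Co2.rpG Co2.tt_sq exists_cd chk hc l hl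

end Cfsg.Agent.H612.Ore.CoTwoF
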