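import Cfsg.Agent.H612.Ore.Engine
import Cfsg.Agent.SporRec.TwoSp6.Sp

/-!
# Class cover and commutators in `Sp₆(2)`

`uc j` (`j < 7`) : codes of seven vectors, `tv j` the transvections (the generators `transv (uv j) 1` of
`Co2Type.Coord`), `wd w` the product of a word.  `exists_rep30` : every element of `Sp₆(2)` is conjugate to
one of the thirty words `rw30`; `comm30` : the representative is the commutator of two explicit words.
-/

set_option autoImplicit false

namespace Cfsg.Agent.H612.Ore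

open Cfsg Cfsg.Agent.ClassicalGeometry.SympBasic
open Cfsg.Agent.SporRec.TwoSp6.Sp (V S om tr act act_one act_mul act_ext act_add act_om act_tr enc enc_xor om_enc
  fN exists_enc)
open scoped Matrix

/-- the code of a vector -/
def cd (x : V) : ℕ := (x (Sum.inl 0)).val + 2 * (x (Sum.inl 1)).val + 4 * (x (Sum.inl 2)).val +
  8 * (x (Sum.inr 0)).val + 16 * (x (Sum.inr 1)).val + 32 * (x (Sum.inr 2)).val

theorem cd_enc : ∀ c < 64, cd (enc c) = c := by decide +kernel

theorem enc_cd (x : V) : enc (cd x) = x := by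
  obtain ⟨c, hc, rfl⟩ := exists_enc x
  rw [cd_enc c hc]

theorem cd_lt (x : V) : cd x < 64 := by
  obtain ⟨c, hc, rfl⟩ := exists_enc x
  rwa [cd_enc c hc]

theorem enc_inj {c d : ℕ} (hc : c < 64) (hd : d < 64) (h : enc c = enc d) : c = d := by
  rw [← cd_enc c hc, ← cd_enc d hd, h]

/-- the form on codes, fast -/
def B6 (u v : ℕ) : Bool :=
  (0x96 >>> (u % 8 &&& (v / 8) % 8) + 0x96 >>> ((u / 8) % 8 &&& v % 8)) % 2 == 1

theorem B6_eq : ∀ c < 64, ∀ d < 64, B6 c d = fN c d := by decide +kernel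

theorem B6_om {c d : ℕ} (hc : c < 64) (hd : d < 64) : B6 c d = decide (om (enc c) (enc d) = 1) := by
  rw [B6_eq c hc d hd, om_enc]
  cases fN c d <;> decide

/-- the position of a basis vector -/
def ix : Fin 3 ⊕ Fin 3 → ℕ := Sum.elim (fun i => i.val) (fun i => 3 + i.val)

theorem ix_lt : ∀ a, ix a < 6 := by decide

theorem enc_ix : ∀ a : Fin 3 ⊕ Fin 3, enc (2 ^ ix a) = Pi.single a 1 := by decide +kernel

theorem exists_ix : ∀ i < 6, ∃ a : Fin 3 ⊕ Fin 3, ix a = i := by decide

/-- the action of `Sp₆(2)` on codes -/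
def spAct : Act S 6 B6 (fun _ => false) where
  ap g v := cd (act g (enc v))
  one v hv := by rw [act_one, cd_enc v hv]
  mul g h v hv := by rw [act_mul, enc_cd]
  lt g v hv := cd_lt _
  xor g u v hu hv := by
    rw [enc_xor, act_add]
    apply enc_inj (cd_lt _) (Nat.xor_lt_two_pow (n := 6) (cd_lt _) (cd_lt _))
    rw [enc_cd, enc_xor, enc_cd, enc_cd]
  formB g u v hu hv := by
    rw [B6_om (cd_lt _) (cd_lt _), B6_om hu hv, enc_cd, enc_cd, act_om]
  formQ g u hu := rfl
  faithful g h := by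
    apply Subtype.ext
    apply Matrix.ext_of_mulVec_single
    intro a
    have h1 := h (ix a) (ix_lt a)
    have h2 := congrArg enc h1
    rw [enc_cd, enc_ix] at h2
    rw [show ((1 : S) : Matrix (Fin 3 ⊕ Fin 3) (Fin 3 ⊕ Fin 3) (ZMod 2)) = 1 from rfl, Matrix.one_mulVec]
    exact h2
  real c hB _ := by
    let M : Matrix (Fin 3 ⊕ Fin 3) (Fin 3 ⊕ Fin 3) (ZMod 2) := Matrix.of fun a b => enc (col 6 c (ix b)) a
    have hM : ∀ b, M *ᵥ Pi.single b 1 = enc (col 6 c (ix b)) := by
      intro b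
      rw [Matrix.mulVec_single_one]
      rfl
    have hmem : M ∈ Matrix.symplecticGroup (Fin 3) (ZMod 2) := by
      rw [SymplecticGroup.mem_iff']
      ext a b
      have h1 : (Mᵀ * Matrix.J (Fin 3) (ZMod 2) * M) a b =
          sympForm 3 (ZMod 2) (M *ᵥ Pi.single a 1) (M *ᵥ Pi.single b 1) := by
        rw [sympForm_def, Matrix.mulVec_single_one, Matrix.mulVec_single_one, Matrix.mul_assoc]
        rw [Matrix.mul_apply']
        congr 1
      have h2 : Matrix.J (Fin 3) (ZMod 2) a b = sympForm 3 (ZMod 2) (Pi.single a 1) (Pi.single b 1) := by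
        rw [sympForm_def, single_one_dotProduct, Matrix.mulVec_single_one]
        rfl
      rw [h1, h2, hM, hM, ← enc_ix, ← enc_ix]
      have h3 := hB (ix a) (ix_lt a) (ix b) (ix_lt b)
      have hl : ∀ a, 2 ^ ix a < 64 := fun a => two_pow_lt (n := 6) (ix_lt a)
      rw [B6_om (col_lt _ _ _) (col_lt _ _ _), B6_om (hl a) (hl b)] at h3
      have key : ∀ x y : ZMod 2, decide (x = 1) = decide (y = 1) → x = y := by decide
      exact key _ _ h3
    refine ⟨⟨M, hmem⟩, ?_⟩
    intro i hi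
    obtain ⟨a, rfl⟩ := exists_ix i hi
    rw [enc_ix]
    show cd (M *ᵥ Pi.single a 1) = _
    rw [hM, cd_enc _ (col_lt _ _ _)]

theorem spAct_ap (g : S) (v : ℕ) : spAct.ap g v = cd (act g (enc v)) := rfl


/-- the seven vectors -/
def uc (j : ℕ) : ℕ := [1, 8, 3, 20, 32, 4, 16].getD j 0

/-- the seven transvections -/
def tv (j : ℕ) : S := tr (enc (uc j))

/-- products of words -/
def wd {G : Type*} [Group G] (D : ℕ → G) : List ℕ → G
  | [] => 1
  | j :: w => D j * wd D w

/-- one transvection on codes -/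
def st6 (j v : ℕ) : ℕ := bif B6 v (uc j) then v ^^^ uc j else v

/-- a word on codes -/
def wv6 (w : List ℕ) (v : ℕ) : ℕ := w.foldr st6 v

theorem uc_lt (j : ℕ) : uc j < 64 := by
  rcases j with _ | _ | _ | _ | _ | _ | _ | j
  all_goals simp [uc]

theorem ap_tv (j : ℕ) {v : ℕ} (hv : v < 64) : spAct.ap (tv j) v = st6 j v := by
  rw [spAct_ap, tv, act_tr, st6]
  have h := B6_om hv (uc_lt j)
  have hlt : v ^^^ uc j < 64 := Nat.xor_lt_two_pow (n := 6) hv (uc_lt j)
  by_cases h1 : om (enc v) (enc (uc j)) = 1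
  · rw [h, decide_eq_true h1, cond_true, h1, one_smul, ← enc_xor, cd_enc _ hlt]
  · have h0 : om (enc v) (enc (uc j)) = 0 := by
      rcases Cfsg.Agent.SporRec.TwoSp6.Sp.om_cases (enc v) (enc (uc j)) with h2 | h2
      · exact h2
      · exact absurd h2 h1
    rw [h, decide_eq_false h1, cond_false, h0, zero_smul, add_zero, cd_enc _ hv]

theorem ap_wd (w : List ℕ) {v : ℕ} (hv : v < 64) : spAct.ap (wd tv w) v = wv6 w v := by
  induction w with
  | nil => exact spAct.one v hv
  | cons j w ih =>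
    rw [wd, spAct.mul _ _ _ hv, ih, ap_tv]
    · rfl
    · rw [← ih]; exact spAct.lt _ _ hv

/-- the word has the code -/
def isCode (w : List ℕ) (c : ℕ) : Bool := (List.range 6).all fun i => wv6 w (2 ^ i) == col 6 c i

theorem rep_wd {w : List ℕ} {c : ℕ} (h : isCode w c = true) : spAct.Rep (wd tv w) c := by
  intro i hi
  rw [ap_wd w (two_pow_lt (n := 6) hi)]
  exact eq_of_beq (List.all_eq_true.1 h i (List.mem_range.2 hi))

/-- matrix codes of the representatives -/
def reps : List ℕ := [34630287489, 34630549633, 34628452489, 34681143425, 34678784138, 56103290249, 34681274497, 51810156929,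
  55952295326, 34678915210, 21743685001, 51808322953, 56224399758, 51929432449, 22129561022, 51657328030,
  56220729742, 38973866122, 21743683977, 22341879937, 22062435514, 22397995438, 38705431706, 21743667337,
  42082518350, 22330869930, 37787551054, 8199998570, 60594736963, 48623551524]

/-- words of the representatives -/
def rws : List (List ℕ) := [[], [0], [1, 0], [2, 0], [2, 1, 0], [3, 1, 0], [4, 2, 0], [6, 5, 3], [3, 2, 1, 0], [4, 2, 1, 0], [4, 3, 1, 0],
  [5, 3, 1, 0], [6, 3, 2, 1], [6, 5, 3, 2], [4, 3, 2, 1, 0], [5, 3, 2, 1, 0], [6, 3, 2, 1, 0], [5, 4, 2, 1,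
  0], [6, 4, 3, 1, 0], [6, 5, 4, 3, 2], [5, 4, 3, 2, 1, 0], [6, 4, 3, 2, 1, 0], [6, 5, 4, 2, 1, 0], [6, 5, 4,
  3, 1, 0], [6, 2, 3, 1, 2, 1], [6, 5, 4, 3, 2, 1, 0], [6, 5, 2, 3, 1, 2, 1], [6, 5, 4, 2, 3, 1, 2, 1], [4, 3,
  2, 6, 1, 2, 3, 1, 2, 0, 1, 0], [6, 4, 2, 3, 1, 2, 6, 4, 5, 3, 4, 0, 1, 2, 3, 0, 1, 2, 0, 1, 0]]

/-- first words -/
def aws : List (List ℕ) := [[6, 5, 4, 2, 1, 0], [1, 2, 6, 5, 2, 3, 4, 0, 1, 2, 3, 0, 1, 2, 0, 1], [6, 5, 2, 3, 4, 1, 2, 3, 0, 1, 2, 0, 1],
  [4, 3, 2, 6, 5, 1, 2, 3, 1, 2, 0, 1, 0], [4, 3, 1, 2, 6, 4, 5, 4, 1, 2, 3, 2, 0, 1], [4, 2, 3, 1, 2, 6, 5,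
  4, 3, 2, 0, 1], [5, 4, 3, 1, 2, 6, 5, 4, 1, 2, 3, 2, 0, 1], [2, 6, 3, 4, 5, 1, 2, 3, 4, 0, 1, 2, 1, 0], [4,
  5, 2, 3, 4, 1, 2, 3, 0, 1, 2, 6, 0], [3, 2, 6, 5, 4, 3, 0, 1], [2, 6, 3, 4, 5, 1, 2, 3, 0, 1, 2, 0], [6, 4,
  5, 2, 3, 4, 1, 2, 3, 0, 1, 2, 0], [4, 3, 1, 2, 6, 5, 1, 2, 3, 1, 2, 1, 0], [3, 4, 2, 3, 1, 2, 6, 5, 4, 3, 2,
  1, 0], [3, 0, 1, 2, 6, 5, 4, 1, 2, 3], [4, 2, 3, 1, 2, 6, 5, 4, 3, 2, 0, 1], [2, 6, 5, 3, 4, 2, 3, 0, 1, 2],
  [3, 0, 1, 2, 6, 4, 5, 1, 2, 3], [2, 6, 5, 3, 4, 2, 3, 0, 1, 2], [3, 1, 2, 6, 4, 5, 3, 0, 1, 0], [3, 2, 6, 4,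
  5, 3, 0, 1], [3, 2, 6, 5, 4, 1, 2, 3, 0, 1], [3, 2, 6, 4, 5, 1, 2, 3, 0, 1], [4, 3, 2, 6, 5, 1, 2, 3, 0, 1,
  2, 0, 1], [4, 3, 2, 6, 4, 5, 1, 2, 3, 4, 1, 0], [3, 0, 1, 2, 6, 4, 5, 3], [4, 3, 2, 6, 5, 3, 4, 3, 1, 0],
  [3, 1, 2, 6, 4, 5, 3, 0], [6, 3, 4, 5, 2, 3, 1, 0], [6, 5, 4, 2, 1, 0]]

/-- second words -/
def bws : List (List ℕ) := [[], [6, 4, 2, 3, 1, 2, 6, 4, 5, 2, 3, 4, 1, 2, 3, 0, 1, 2, 6, 4, 3, 0, 1, 2, 0], [3, 0, 1, 0], [0], [2, 6, 2,
  3, 4, 1, 2, 3, 0, 1, 2, 6, 5, 1, 2, 3, 4, 3, 1, 2, 1, 0], [2, 6, 2, 3, 4, 1, 2, 3, 0, 1, 2, 6, 3, 4, 5, 4,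
  2, 3, 2, 1, 0], [4, 3, 2, 6, 2, 3, 4, 1, 2, 3, 0, 1, 2, 6, 5, 3, 4, 2, 3, 2, 0], [4, 3, 1, 2, 6, 4, 5, 2, 3,
  4, 1, 2, 3, 0, 1, 2, 6, 5, 4, 0, 1, 2, 3], [5, 3, 0, 1, 0], [4, 0, 1, 0], [3, 0, 1, 0], [3, 0, 1, 0], [1, 2,
  3, 1, 2, 0, 1], [6, 3], [2, 6, 2, 3, 4, 1, 2, 3, 0, 1, 2, 6, 4, 5, 0, 1, 2, 3, 4, 3, 0, 1, 2, 1], [2, 6, 5,
  2, 3, 4, 1, 2, 3, 0, 1, 2, 6, 3, 4, 5, 4, 2, 3, 2, 1, 0], [5, 4, 3, 2, 6, 3, 4, 1, 2, 3, 0, 1, 2, 6, 4, 5,
  0, 1, 2, 3, 4, 1, 2, 3, 0, 1, 0], [2, 6, 2, 3, 4, 1, 2, 3, 0, 1, 2, 6, 4, 5, 1, 2, 3, 4, 3, 0, 1, 2, 1], [5,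
  4, 3, 2, 6, 4, 5, 2, 3, 4, 1, 2, 3, 0, 1, 2, 6, 3, 4, 5, 3, 4, 3, 2, 0, 1, 0], [5, 4, 3, 2, 6, 5, 4, 1, 2,
  3, 0, 1, 2, 6, 3, 4, 5, 1, 2, 3, 4, 2, 3, 0, 1, 2, 0], [3, 4, 0, 1, 0], [3, 4, 5, 1, 2, 3, 0, 1, 2, 1], [3,
  4, 1, 2, 3, 0, 1, 2, 1], [5, 3, 0, 1, 0], [2, 6], [2, 3, 1, 2, 6, 2, 3, 4, 1, 2, 3, 0, 1, 2, 6, 2, 3, 4, 5,
  2, 3, 4, 3, 0, 1, 2, 1], [4, 3, 1, 2, 6, 5, 2, 3, 4, 1, 2, 3, 0, 1, 2, 6, 5, 4, 1, 2, 3, 0, 1, 2, 0, 1], [3,
  4, 2], [3, 0, 1, 2, 0, 1, 0], [0, 1, 2, 6, 5, 2, 3, 4, 1, 2, 3, 0, 1, 2, 6, 5, 1, 2, 3, 4, 1, 2, 3, 2, 1]]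

/-- matrix codes of the first words -/
def acs : List ℕ := [38705431706, 11390615012, 9240215460, 30529965891, 60990767467, 8662907036, 43878007151, 43790482087,
  8971712052, 3346745503, 43798968967, 8703211444, 30395747685, 8664922242, 14114048351, 8662907036,
  18212944204, 65653639263, 18212944204, 63604984215, 54886336927, 13023005520, 64562596432, 30690660163,
  30215424622, 62518135176, 3875895486, 63610489225, 37967300686, 38705431706]

/-- matrix codes of the second words -/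
def bcs : List ℕ := [34630287489, 27975482788, 56103290248, 34630549633, 50128377745, 5441892305, 29599721411, 57682128996,
  51808322952, 34628583560, 56103290248, 56103290248, 67854944084, 56105124225, 54167835238, 5441892049,
  7977359914, 40209147814, 64229219398, 66871360737, 56103470472, 64181439095, 12641831543, 51808322952,
  34681406529, 32781700369, 46112928433, 55960339841, 56071570839, 39318881304]

/-- words of order seven in the two elements -/
def sws : List (List ℕ) := [[], [], [1, 0, 1, 0, 0, 0], [1, 0, 0], [1], [1, 1, 1, 0], [1], [1, 1, 0], [1, 0, 1, 0, 0], [1, 0, 1, 0, 0, 0,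
  0], [1, 0, 1, 0, 0, 0, 0], [1, 0, 0, 1, 0, 0, 0, 0, 0], [1, 1, 1, 0, 0], [1, 0, 0], [1, 1, 0], [1, 1, 1, 0,
  0], [1], [1], [1, 0, 1, 0, 0, 0], [1, 0, 0, 0], [1, 0, 1, 1, 0, 0], [1], [1, 1, 1, 0], [1, 0, 0], [1, 0, 0],
  [1, 0, 0], [1], [1, 1, 0, 0], [1, 1, 1, 1, 0, 0], [1]]

/-- transitivity codes -/
def trs : List ℕ := [34630287489, 4169203781, 34815361155, 62366161091, 67984441733, 47118877765, 68101357955, 34628452489,
  34630287497, 34813526153, 34815361161, 67982606729, 67984441737, 68099522953, 68101357961, 34380727875,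
  3295743557, 4169207365, 34815362627, 67734882115, 46509656645, 47118879301, 68101359427, 3289714265,
  3295743577, 34813527625, 34815362633, 46507821641, 46509656649, 68099524425, 68101359433, 1163114691,
  4633899397, 18128024645, 4750815619, 62366398659, 67984667013, 47119053893, 68101583235, 4632064393,
  4633899401, 4748980617, 4750815625, 67982832009, 67984667017, 68099748233, 68101583241, 4384339779,
  17518803525, 18128026181, 4750817091, 67735107395, 46509832773, 47119055429, 68101584707, 17516968521,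
  17518803529, 4748982089, 4750817097, 46507997769, 46509832777, 68099749705, 68101584713]

/-- moves at the root -/
def mvA : List (ℕ × ℕ) := [(9, 34630549633), (10, 34681143425), (11, 34681405569), (12, 59394507137), (13, 59394769281), (14,
  59377205633), (15, 59377467777), (24, 54030043201), (25, 54030305345), (26, 34681144385), (27, 34681406529),
  (28, 37919721537), (29, 37919983681), (30, 59377206593), (31, 59377468737), (40, 4633866625), (41,
  4634128769), (42, 4616565121), (43, 4616827265), (44, 59394699649), (45, 59394961793), (46, 59377398145),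
  (47, 59377660289), (56, 17518770241), (57, 17519032385), (58, 4616566081), (59, 4616828225), (60,
  37919864897), (61, 37920127041), (62, 59377399105), (63, 59377661249)]

/-- moves at the second root -/
def mvB : List (ℕ × ℕ) := [(3, 34643136705), (4, 53816600641), (5, 54886414401), (6, 56105124225), (7, 57191715201), (16, 34404586689),
  (17, 34417165441), (18, 34630288513), (19, 34643137729), (20, 57037837697), (21, 55960159617), (22,
  56105125249), (23, 57191716225), (32, 2277181505), (33, 3346991169), (34, 4565696897), (35, 5652283777),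
  (36, 53816789057), (37, 54886598721), (38, 56105304449), (39, 57191891329), (48, 5498406273), (49,
  4420732289), (50, 4565697921), (51, 5652284801), (52, 57038013825), (53, 55960339841), (54, 56105305473),
  (55, 57191892353)]

/-- the tree for the elements with `om v (g v) = 1` for some `v` -/
def treeA : Tree :=
  (.node 8 3 [(5, 54226069889), (7, 56105124225), (17, 4330759425), (19, 34630288513), (21, 24194976769), (23,
  56105125249), (33, 2686650753), (35, 4565696897), (37, 54226258305), (39, 56105304449), (49, 34932485121),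
  (51, 4565697921), (53, 24195066881), (55, 56105305473), (13, 54226069889), (15, 56105124225), (25,
  4330759425), (27, 34630288513), (29, 24194976769), (31, 56105125249), (41, 2686650753), (43, 4565696897),
  (45, 54226258305), (47, 56105304449), (57, 34932485121), (59, 4565697921), (61, 24195066881), (63,
  56105305473)] (.node 1 1 [(6, 37381759105), (32, 4565647489), (34, 7317110913), (36, 34630418561), (38,
  37381881985), (18, 34663841921), (20, 36844880001), (22, 7283540097), (48, 4632764545), (50, 35200852097),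
  (52, 36845019265), (54, 7283564673)] (.node 2 2 [(34, 36844880001), (36, 38925254785), (38, 41139847297)]
  (.node 4 4 [] (.node 16 5 [] (.leaf 32 1 34630287497 (.leaf 36 3 12614189897 .nil))  (.node 18 5 [] (.leaf
  32 3 34641072841 (.leaf 36 6 10165694852 .nil))  (.node 20 5 [] (.leaf 34 6 16858165645 (.leaf 38 6
  2947257289 .nil))  (.node 22 5 [] (.leaf 34 6 10161516676 (.leaf 38 3 56112763849 .nil))  .nil))))  (.node
  6 4 [(52, 38925254785), (54, 38925254785)] (.node 48 5 [] (.leaf 32 6 12827390121 (.leaf 38 9 12678099117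
  .nil))  (.node 50 5 [] (.leaf 32 6 10632442016 (.leaf 38 9 9975136416 .nil))  .nil))  (.node 32 4 []
  (.node 16 5 [] (.leaf 4 3 12069063497 (.leaf 36 5 8624584352 .nil))  (.node 18 5 [] (.leaf 4 6 10702567844
  (.leaf 36 11 20595119236 .nil))  (.node 48 5 [] (.leaf 6 9 12678230157 (.leaf 38 11 66765496164 .nil))
  (.node 50 5 [] (.leaf 6 9 9966747808 (.leaf 38 5 67597189666 .nil))  .nil))))  .nil)))  (.node 4 2 [(18,
  34663841921), (20, 36844880001), (22, 41173401729)] (.node 2 4 [(36, 38925254785), (38, 38925254785)]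
  (.node 32 5 [] (.leaf 16 6 16858165689 (.leaf 18 9 16591892921 .nil))  (.node 34 5 [] (.leaf 20 6
  10435375540 (.leaf 22 9 10045391284 .nil))  .nil))  (.node 6 4 [(52, 38925254785), (54, 38925254785)]
  (.node 48 5 [] (.leaf 16 18 53851905254 (.leaf 22 14 63568247977 .nil))  (.node 50 5 [] (.leaf 18 14
  63568223407 (.leaf 20 18 17344738400 .nil))  .nil))  (.node 16 4 [(36, 38925254785), (52, 38925254785)]
  (.node 32 5 [] (.leaf 2 9 68660051385 (.leaf 18 14 68660051385 .nil))  (.node 48 5 [] (.leaf 6 11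
  33206868852 (.leaf 22 15 33206867380 .nil))  .nil))  .nil)))  (.node 16 2 [(36, 38925254785), (52,
  38925254785)] (.node 4 4 [] (.node 2 5 [] (.leaf 32 3 34641073865 (.leaf 36 6 10161567108 .nil))  (.node 6
  5 [] (.leaf 48 9 14973001995 (.leaf 52 9 10268184848 .nil))  (.node 18 5 [] (.leaf 32 5 1141430608 (.leaf
  36 11 47467501826 .nil))  (.node 22 5 [] (.leaf 48 11 59278663366 (.leaf 52 5 5437448084 .nil))  .nil))))
  (.node 20 4 [(38, 38925254785), (54, 38925254785)] (.node 34 5 [] (.leaf 32 9 44508358667 (.leaf 52 14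
  12208890025 .nil))  (.node 50 5 [] (.leaf 32 11 25388687330 (.leaf 52 15 25388684706 .nil))  .nil))
  (.node 32 4 [] (.node 2 5 [] (.leaf 4 6 10698440100 (.leaf 36 11 3683684484 .nil))  (.node 18 5 [] (.leaf
  4 11 13644632322 (.leaf 36 18 17340412996 .nil))  (.node 34 5 [] (.leaf 20 14 47118243979 (.leaf 52 15
  67000901012 .nil))  (.node 50 5 [] (.leaf 20 15 25191552388 (.leaf 52 9 10310684052 .nil))  .nil))))
  (.node 48 4 [] (.node 6 5 [] (.leaf 4 14 16591049099 (.leaf 52 15 62704884916 .nil))  (.node 22 5 []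
  (.leaf 4 15 25396549010 (.leaf 52 9 10242526388 .nil))  (.node 38 5 [] (.leaf 20 9 9731315984 (.leaf 36 15
  32632772016 .nil))  (.node 54 5 [] (.leaf 20 5 40342575028 (.leaf 36 9 9765422512 .nil))  .nil))))
  .nil))))  .nil)))  (.node 3 1 [(6, 37381759105), (32, 4565647489), (34, 7317110913), (36, 34630418561),
  (38, 37381881985), (26, 34663841921), (28, 36844880001), (30, 7283540097), (56, 4632764545), (58,
  35200852097), (60, 36845019265), (62, 7283564673)] (.node 2 2 [(34, 36844880001), (36, 38925254785), (38,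
  41139847297)] (.node 4 4 [] (.node 24 5 [] (.leaf 32 13 52631972576 (.leaf 36 9 7267856519 .nil))  (.node
  26 5 [] (.leaf 32 4 34681143425 (.leaf 36 9 4616503425 .nil))  (.node 28 5 [] (.leaf 34 13 53924080047
  (.leaf 38 9 7484883075 .nil))  (.node 30 5 [] (.leaf 34 4 50987810958 (.leaf 38 9 4817072270 .nil))
  .nil))))  (.node 6 4 [(60, 38925254785), (62, 38925254785)] (.node 56 5 [] (.leaf 32 13 58688807311 (.leaf
  38 26 24403257480 .nil))  (.node 58 5 [] (.leaf 32 4 17105289386 (.leaf 38 24 9272096666 .nil))  .nil))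
  (.node 32 4 [] (.node 24 5 [] (.leaf 4 9 41635983527 (.leaf 36 23 10772035296 .nil))  (.node 26 5 []
  (.leaf 4 9 38976110721 (.leaf 36 17 34681143425 .nil))  (.node 56 5 [] (.leaf 6 26 58226124936 (.leaf 38
  17 7484883075 .nil))  (.node 58 5 [] (.leaf 6 24 9272229786 (.leaf 38 23 8625069346 .nil))  .nil))))
  .nil)))  (.node 4 2 [(26, 34663841921), (28, 36844880001), (30, 41173401729)] (.node 2 4 [(36,
  38925254785), (38, 38925254785)] (.node 32 5 [] (.leaf 24 27 8451827423 (.leaf 26 16 49261600901 .nil))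
  (.node 34 5 [] (.leaf 28 27 4177036958 (.leaf 30 16 37549531267 .nil))  .nil))  (.node 6 4 [(60,
  38925254785), (62, 38925254785)] (.node 56 5 [] (.leaf 24 14 23761463036 (.leaf 30 18 33511425399 .nil))
  (.node 58 5 [] (.leaf 26 18 52846026474 (.leaf 28 14 21613463162 .nil))  .nil))  (.node 24 4 [(36,
  38925254785), (60, 38925254785)] (.node 32 5 [] (.leaf 2 22 50118735980 (.leaf 26 25 7417782403 .nil))
  (.node 56 5 [] (.leaf 6 20 19786264676 (.leaf 30 21 1959511394 .nil))  .nil))  .nil)))  (.node 24 2 [(36,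
  38925254785), (60, 38925254785)] (.node 4 4 [] (.node 2 5 [] (.leaf 32 19 8633456004 (.leaf 36 14
  30838535700 .nil))  (.node 6 5 [] (.leaf 56 19 12929225860 (.leaf 60 14 30686463504 .nil))  (.node 26 5 []
  (.leaf 32 8 60214232592 (.leaf 36 15 60214232592 .nil))  (.node 30 5 [] (.leaf 56 8 59074430484 (.leaf 60
  15 59074430484 .nil))  .nil))))  (.node 28 4 [(38, 38925254785), (62, 38925254785)] (.node 34 5 [] (.leaf
  32 19 42995160224 (.leaf 60 27 36503128051 .nil))  (.node 58 5 [] (.leaf 32 8 24722146864 (.leaf 60 23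
  32476179067 .nil))  .nil))  (.node 32 4 [] (.node 2 5 [] (.leaf 4 14 64669791796 (.leaf 36 28 12362745762
  .nil))  (.node 26 5 [] (.leaf 4 15 60751234576 (.leaf 36 22 34628453512 .nil))  (.node 34 5 [] (.leaf 28
  27 35966259187 (.leaf 60 20 30686463504 .nil))  (.node 58 5 [] (.leaf 28 23 67364399739 (.leaf 60 25
  33073605202 .nil))  .nil))))  (.node 56 4 [] (.node 6 5 [] (.leaf 4 27 6363910103 (.leaf 60 20 64979076624
  .nil))  (.node 30 5 [] (.leaf 4 23 67371623263 (.leaf 60 25 8625069216 .nil))  (.node 38 5 [] (.leaf 28 14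
  64509199888 (.leaf 36 20 60214232592 .nil))  (.node 62 5 [] (.leaf 28 15 24723211828 (.leaf 36 25
  8633456004 .nil))  .nil))))  .nil))))  .nil)))  (.node 9 1 [(6, 37381759105), (32, 4565647489), (34,
  7317110913), (36, 34630418561), (38, 37381881985), (18, 34663841921), (20, 36844880001), (22, 7283540097),
  (48, 4632764545), (50, 35200852097), (52, 36845019265), (54, 7283564673)] (.node 2 2 [(34, 36844880001),
  (36, 38925254785), (38, 41139847297)] (.node 4 4 [] (.node 16 5 [] (.leaf 32 2 34630549633 (.leaf 36 5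
  51810487681 .nil))  (.node 18 5 [] (.leaf 32 5 19864628616 (.leaf 36 11 51642640385 .nil))  (.node 20 5 []
  (.leaf 34 12 42131015066 (.leaf 38 11 23689701512 .nil))  (.node 22 5 [] (.leaf 34 11 38690647297 (.leaf
  38 5 24495204744 .nil))  .nil))))  (.node 6 4 [(52, 38925254785), (54, 38925254785)] (.node 48 5 [] (.leaf
  32 12 8248495258 (.leaf 38 23 38690761985 .nil))  (.node 50 5 [] (.leaf 32 11 4331021569 (.leaf 38 17
  1385205920 .nil))  .nil))  (.node 32 4 [] (.node 16 5 [] (.leaf 4 5 51810616705 (.leaf 36 10 4565960065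
  .nil))  (.node 18 5 [] (.leaf 4 11 52179511297 (.leaf 36 18 9698293472 .nil))  (.node 48 5 [] (.leaf 6 23
  4331021569 (.leaf 38 18 1108913634 .nil))  (.node 50 5 [] (.leaf 6 17 1376817312 (.leaf 38 10 39527590280
  .nil))  .nil))))  .nil)))  (.node 4 2 [(18, 34663841921), (20, 36844880001), (22, 41173401729)] (.node 2 4
  [(36, 38925254785), (38, 38925254785)] (.node 32 5 [] (.leaf 16 12 4293331358 (.leaf 18 23 58085287169
  .nil))  (.node 34 5 [] (.leaf 20 11 4398195969 (.leaf 22 17 1455460788 .nil))  .nil))  (.node 6 4 [(52,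
  38925254785), (54, 38925254785)] (.node 48 5 [] (.leaf 16 29 12759270494 (.leaf 22 28 21620278394 .nil))
  (.node 50 5 [] (.leaf 18 28 23768802556 (.leaf 20 29 59592002490 .nil))  .nil))  (.node 16 4 [(36,
  38925254785), (52, 38925254785)] (.node 32 5 [] (.leaf 2 23 7350922497 (.leaf 18 28 38801065086 .nil))
  (.node 48 5 [] (.leaf 6 18 1926473190 (.leaf 22 22 9475462434 .nil))  .nil))  .nil)))  (.node 16 2 [(36,
  38925254785), (52, 38925254785)] (.node 4 4 [] (.node 2 5 [] (.leaf 32 5 2684823944 (.leaf 36 11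
  51911141377 .nil))  (.node 6 5 [] (.leaf 48 23 2214938760 (.leaf 52 17 9194443024 .nil))  (.node 18 5 []
  (.leaf 32 10 1141426512 (.leaf 36 18 1141426512 .nil))  (.node 22 5 [] (.leaf 48 18 9732382676 (.leaf 52
  10 9732382676 .nil))  .nil))))  (.node 20 4 [(38, 38925254785), (54, 38925254785)] (.node 34 5 [] (.leaf
  32 23 2684815752 (.leaf 52 28 6579432956 .nil))  (.node 50 5 [] (.leaf 32 18 52076947848 (.leaf 52 22
  1652593716 .nil))  .nil))  (.node 32 4 [] (.node 2 5 [] (.leaf 4 11 52448012289 (.leaf 36 18 9966793440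
  .nil))  (.node 18 5 [] (.leaf 4 18 1678426448 (.leaf 36 29 38381457050 .nil))  (.node 34 5 [] (.leaf 20 28
  40939169244 (.leaf 52 22 8929679394 .nil))  (.node 50 5 [] (.leaf 20 22 1652593684 (.leaf 52 17 1720753556
  .nil))  .nil))))  (.node 48 4 [] (.node 6 5 [] (.leaf 4 28 40939056376 (.leaf 52 22 9127336208 .nil))
  (.node 22 5 [] (.leaf 4 22 1175491632 (.leaf 52 17 1652595892 .nil))  (.node 38 5 [] (.leaf 20 17
  8657574160 (.leaf 36 22 8657573904 .nil))  (.node 54 5 [] (.leaf 20 10 10277771252 (.leaf 36 17 1175492016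
  .nil))  .nil))))  .nil))))  .nil)))  (.node 11 1 [(6, 37381759105), (32, 4565647489), (34, 7317110913),
  (36, 34630418561), (38, 37381881985), (26, 34663841921), (28, 36844880001), (30, 7283540097), (56,
  4632764545), (58, 35200852097), (60, 36845019265), (62, 7283564673)] (.node 2 2 [(34, 36844880001), (36,
  38925254785), (38, 41139847297)] (.node 4 4 [] (.node 24 5 [] (.leaf 32 5 31711694537 (.leaf 36 11
  63454062601 .nil))  (.node 26 5 [] (.leaf 32 2 34815361161 (.leaf 36 5 63806504777 .nil))  (.node 28 5 []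
  (.leaf 34 11 38690910153 (.leaf 38 5 32198072707 .nil))  (.node 30 5 [] (.leaf 34 12 50670880602 (.leaf 38
  11 31207991427 .nil))  .nil))))  (.node 6 4 [(60, 38925254785), (62, 38925254785)] (.node 56 5 [] (.leaf
  32 11 4331284425 (.leaf 38 17 3717763234 .nil))  (.node 58 5 [] (.leaf 32 12 16788360794 (.leaf 38 23
  38691024841 .nil))  .nil))  (.node 32 4 [] (.node 24 5 [] (.leaf 4 11 63990933513 (.leaf 36 18 10772067552
  .nil))  (.node 26 5 [] (.leaf 4 5 63806633801 (.leaf 36 10 4750817097 .nil))  (.node 56 5 [] (.leaf 6 17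
  4246245538 (.leaf 38 10 39714265475 .nil))  (.node 58 5 [] (.leaf 6 23 4331284425 (.leaf 38 18 9698811170
  .nil))  .nil))))  .nil)))  (.node 4 2 [(26, 34663841921), (28, 36844880001), (30, 41173401729)] (.node 2 4
  [(36, 38925254785), (38, 38925254785)] (.node 32 5 [] (.leaf 24 17 16474481081 (.leaf 26 11 4398511567
  .nil))  (.node 34 5 [] (.leaf 28 23 63454311887 (.leaf 30 12 9545955998 .nil))  .nil))  (.node 6 4 [(60,
  38925254785), (62, 38925254785)] (.node 56 5 [] (.leaf 24 21 64624422511 (.leaf 30 21 20642244402 .nil))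
  (.node 58 5 [] (.leaf 26 21 53851905254 (.leaf 28 21 21613463162 .nil))  .nil))  (.node 24 4 [(36,
  38925254785), (60, 38925254785)] (.node 32 5 [] (.leaf 2 20 16474481081 (.leaf 26 15 26633804863 .nil))
  (.node 56 5 [] (.leaf 6 25 38793733884 (.leaf 30 16 8302615090 .nil))  .nil))  .nil)))  (.node 24 2 [(36,
  38925254785), (60, 38925254785)] (.node 4 4 [] (.node 2 5 [] (.leaf 32 8 33858913987 (.leaf 36 15
  67748775619 .nil))  (.node 6 5 [] (.leaf 56 15 58324960201 (.leaf 60 8 31760291408 .nil))  (.node 26 5 []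
  (.leaf 32 4 34551121481 (.leaf 36 9 4486481481 .nil))  (.node 30 5 [] (.leaf 56 16 50672453466 (.leaf 60
  16 44333286985 .nil))  .nil))))  (.node 28 4 [(38, 38925254785), (62, 38925254785)] (.node 34 5 [] (.leaf
  32 15 4698539600 (.leaf 60 20 17741919804 .nil))  (.node 58 5 [] (.leaf 32 16 16789933658 (.leaf 60 25
  65250922106 .nil))  .nil))  (.node 32 4 [] (.node 2 5 [] (.leaf 4 15 33926039235 (.leaf 36 22 4450304066
  .nil))  (.node 26 5 [] (.leaf 4 9 38846088777 (.leaf 36 17 34551121481 .nil))  (.node 34 5 [] (.leaf 28 20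
  17741919772 (.leaf 60 14 39276484176 .nil))  (.node 58 5 [] (.leaf 28 25 67230179763 (.leaf 60 21
  54548421138 .nil))  .nil))))  (.node 56 4 [] (.node 6 5 [] (.leaf 4 20 17264817720 (.leaf 60 14
  34914293328 .nil))  (.node 30 5 [] (.leaf 4 25 60486076254 (.leaf 60 21 9698811040 .nil))  (.node 38 5 []
  (.leaf 28 8 65583158864 (.leaf 36 14 4379891280 .nil))  (.node 62 5 [] (.leaf 28 16 44341806665 (.leaf 36
  21 9707197828 .nil))  .nil))))  .nil))))  .nil)))  .nil)))) .nil)

/-- the tree for the elements with `om v (g v) = 0` for all `v` -/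
def treeB : Tree :=
  (.node 1 3 [(12, 54226069889), (14, 56105124225), (24, 4330759425), (26, 34630288513), (28, 24194976769),
  (30, 56105125249), (40, 2686650753), (42, 4565696897), (44, 54226258305), (46, 56105304449), (56,
  34932485121), (58, 4565697921), (60, 24195066881), (62, 56105305473)] (.node 8 1 [(6, 37381759105), (32,
  4565647489), (34, 7317110913), (36, 34630418561), (38, 37381881985)] (.node 2 2 [] (.node 4 4 [] (.node 16
  5 [] (.leaf 32 0 34630287489 .nil)  (.node 20 5 [] (.leaf 34 7 62378485768 .nil)  .nil))  (.node 6 4 [(52,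
  38925254785)] (.node 48 5 [] (.leaf 32 7 67143215368 .nil)  .nil)  .nil))  (.node 4 4 [(36, 38925254785)]
  (.node 32 2 [] (.node 2 5 [] (.leaf 16 7 62392329480 .nil)  .nil)  .nil)  .nil))  (.node 10 1 [(6,
  37381759105), (32, 4565647489), (34, 7317110913), (36, 34630418561), (38, 37381881985)] (.node 2 2 []
  (.node 4 4 [] (.node 17 5 [] (.leaf 32 7 8624551584 .nil)  (.node 21 5 [] (.leaf 34 7 15067010287 .nil)
  .nil))  (.node 6 4 [(53, 38925254785)] (.node 49 5 [] (.leaf 32 7 45139236047 .nil)  .nil)  .nil))  (.node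
  4 4 [] .nil  .nil))  .nil))  (.node 2 3 [(18, 34663841921), (20, 36844880001), (22, 7283540097), (48,
  4632764545), (50, 35200852097), (52, 36845019265), (54, 7283564673)] (.node 16 2 [] (.node 4 5 [] (.node
  32 1 [] (.node 1 4 [] (.leaf 8 7 12214973024 .nil)  .nil)  .nil)  .nil)  .nil)  .nil))

theorem isom_reps : (reps.all fun r => isom 6 B6 (fun _ => false) r) = true := by decide +kernel

theorem isom_reps' : ∀ r ∈ reps, isom 6 B6 (fun _ => false) r = true := fun r hr =>
  List.all_eq_true.1 isom_reps r hr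

theorem chkA : chk 6 B6 (fun _ => false) (fun _ _ => true) reps treeA [] 0 = true := by decide +kernel

theorem rootA : rootcov 6 B6 (fun _ => false) B6 trs 0 mvA treeA.keys = true := by decide +kernel

theorem chkB : chk 6 B6 (fun _ => false) (fun v w => !B6 v w) reps treeB [] 0 = true := by decide +kernel

theorem covB : covered 6 B6 (fun _ => false) (fun v w => !B6 v w) [] 0 mvB treeB.keys = true := by
  decide +kernel

theorem B6_zero : ∀ w, B6 0 w = false := by
  intro w
  rw [B6]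
  simp

/-- every element of `Sp₆(2)` is conjugate to one of thirty matrices -/
theorem good (g : S) : spAct.Good reps g := by
  have hB := spAct.formB
  by_cases h : ∃ v, v < 64 ∧ B6 v (spAct.ap g v) = true
  · obtain ⟨v, hv, h1⟩ := h
    exact spAct.root (C := fun _ _ => true) (fun _ _ _ _ _ => rfl) isom_reps' treeA hB B6_zero rootA chkA
      (fun _ _ => rfl) hv h1
  · have hC : ∀ g : S, ∀ u v, u < 2 ^ 6 → v < 2 ^ 6 →
        (fun v w => !B6 v w) (spAct.ap g u) (spAct.ap g v) = (fun v w => !B6 v w) u v := by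
      intro g u v hu hv
      show (!B6 _ _) = !B6 _ _
      rw [hB g u v hu hv]
    refine spAct.sound_step (C := fun v w => !B6 v w) hC covB (spAct.sound hC isom_reps' treeB [] 0 chkB) g ?_
      (fun p hp => absurd hp List.not_mem_nil)
    intro v hv
    show (!B6 _ _) = true
    cases hb : B6 v (spAct.ap g v)
    · rfl
    · exact absurd ⟨v, hv, hb⟩ h

theorem codes30 : ((List.range 30).all fun i => isCode (rws.getD i []) (reps.getD i 0) &&
    isCode (aws.getD i []) (acs.getD i 0) && isCode (bws.getD i []) (bcs.getD i 0)) = true := by decide +kernel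

theorem mem_reps : ∀ r ∈ reps, ∃ i, i < 30 ∧ reps.getD i 0 = r := by decide +kernel

theorem rep_r {i : ℕ} (hi : i < 30) : spAct.Rep (wd tv (rws.getD i [])) (reps.getD i 0) := by
  have h := List.all_eq_true.1 codes30 i (List.mem_range.2 hi)
  rw [Bool.and_eq_true, Bool.and_eq_true] at h
  exact rep_wd h.1.1

theorem rep_a {i : ℕ} (hi : i < 30) : spAct.Rep (wd tv (aws.getD i [])) (acs.getD i 0) := by
  have h := List.all_eq_true.1 codes30 i (List.mem_range.2 hi)
  rw [Bool.and_eq_true, Bool.and_eq_true] at h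
  exact rep_wd h.1.2

theorem rep_b {i : ℕ} (hi : i < 30) : spAct.Rep (wd tv (bws.getD i [])) (bcs.getD i 0) := by
  have h := List.all_eq_true.1 codes30 i (List.mem_range.2 hi)
  rw [Bool.and_eq_true, Bool.and_eq_true] at h
  exact rep_wd h.2

/-- CLASS COVER: every element of `Sp₆(2)` is conjugate to one of thirty words. -/
theorem exists_rep30 (g : S) : ∃ i, i < 30 ∧ ∃ h : S, h * g * h⁻¹ = wd tv (rws.getD i []) := by
  obtain ⟨r, hr, h, x, hx, e⟩ := good g
  obtain ⟨i, hi, rfl⟩ := mem_reps r hr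
  refine ⟨i, hi, h⁻¹, ?_⟩
  have h1 : x = wd tv (rws.getD i []) := by
    apply spAct.ext
    intro k hk
    rw [hx k hk, rep_r hi k hk]
  rw [e, ← h1]
  group

theorem comm_chk : ((List.range 30).all fun i => (List.range 6).all fun k =>
    apc 6 (acs.getD i 0) (apc 6 (bcs.getD i 0) (2 ^ k)) ==
      apc 6 (reps.getD i 0) (apc 6 (bcs.getD i 0) (apc 6 (acs.getD i 0) (2 ^ k)))) = true := by decide +kernel

theorem apc_lt (c : ℕ) {v : ℕ} (hv : v < 64) {g : S} (h : spAct.Rep g c) : apc 6 c v < 64 := by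
  rw [← spAct.ap_eq h hv]
  exact spAct.lt _ _ hv

/-- the representatives are commutators of explicit words -/
theorem comm30 {i : ℕ} (hi : i < 30) : wd tv (rws.getD i []) =
    wd tv (aws.getD i []) * wd tv (bws.getD i []) * (wd tv (aws.getD i []))⁻¹ * (wd tv (bws.getD i []))⁻¹ := by
  have h : wd tv (aws.getD i []) * wd tv (bws.getD i []) =
      wd tv (rws.getD i []) * (wd tv (bws.getD i []) * wd tv (aws.getD i [])) := by
    apply spAct.ext
    intro k hk
    have h1 := eq_of_beq (List.all_eq_true.1 (List.all_eq_true.1 comm_chk i (List.mem_range.2 hi)) k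
      (List.mem_range.2 hk))
    have hk2 := two_pow_lt (n := 6) hk
    have hA := apc_lt _ hk2 (rep_a hi)
    have hB := apc_lt _ hk2 (rep_b hi)
    have hBA := apc_lt _ hA (rep_b hi)
    rw [spAct.mul _ _ _ hk2, spAct.mul _ _ _ hk2, spAct.mul _ _ _ hk2, spAct.ap_eq (rep_b hi) hk2,
      spAct.ap_eq (rep_a hi) hB, spAct.ap_eq (rep_a hi) hk2, spAct.ap_eq (rep_b hi) hA,
      spAct.ap_eq (rep_r hi) hBA]
    exact h1
  rw [h]
  group

theorem fix6_chk : ((List.range 30).all fun i => (List.range 64).all fun v => (v == 0) ||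
    !(apc 6 (acs.getD i 0) v == v) || !(apc 6 (bcs.getD i 0) v == v)) = true := by decide +kernel

/-- the two words have no common fixed vector on the natural module -/
theorem fix6 {i : ℕ} (hi : i < 30) {x : V} (ha : act (wd tv (aws.getD i [])) x = x)
    (hb : act (wd tv (bws.getD i [])) x = x) : x = 0 := by
  obtain ⟨v, hv, rfl⟩ := exists_enc x
  have h := List.all_eq_true.1 (List.all_eq_true.1 fix6_chk i (List.mem_range.2 hi)) v (List.mem_range.2 hv)
  have h1 : apc 6 (acs.getD i 0) v = v := by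
    rw [← spAct.ap_eq (rep_a hi) hv, spAct_ap, ha, cd_enc v hv]
  have h2 : apc 6 (bcs.getD i 0) v = v := by
    rw [← spAct.ap_eq (rep_b hi) hv, spAct_ap, hb, cd_enc v hv]
  rw [h1, h2, beq_self_eq_true, Bool.not_true, Bool.or_false, Bool.or_false, beq_iff_eq] at h
  subst h
  funext i
  rcases i with i | i <;> simp [enc, Cfsg.Agent.SporRec.TwoSp6.Sp.bitf]

/-- iterates -/
def itc (c : ℕ) : ℕ → ℕ → ℕ
  | 0, v => v
  | k + 1, v => apc 6 c (itc c k v)

theorem ap_pow {g : S} {c : ℕ} (h : spAct.Rep g c) (k : ℕ) {v : ℕ} (hv : v < 64) :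
    spAct.ap (g ^ k) v = itc c k v ∧ itc c k v < 64 := by
  induction k with
  | zero => exact ⟨by rw [pow_zero]; exact spAct.one v hv, hv⟩
  | succ k ih =>
    have h1 : spAct.ap (g ^ (k + 1)) v = itc c (k + 1) v := by
      rw [pow_succ', spAct.mul _ _ _ hv, ih.1, itc, spAct.ap_eq h ih.2]
    exact ⟨h1, by rw [← h1]; exact spAct.lt _ _ hv⟩

theorem ord_chk : ((List.range 30).all fun i => (i == 1) || (((List.range 6).all fun k =>
    itc (acs.getD i 0) 15 (2 ^ k) == 2 ^ k) && ((List.range 6).any fun k => !(itc (acs.getD i 0) 5 (2 ^ k) == 2 ^ k)) &&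
    ((List.range 6).any fun k => !(itc (acs.getD i 0) 3 (2 ^ k) == 2 ^ k)))) = true := by decide +kernel

/-- the first word has order 15, except over the transvections -/
theorem order15 {i : ℕ} (hi : i < 30) (h1 : i ≠ 1) : orderOf (wd tv (aws.getD i [])) = 15 := by
  have h := List.all_eq_true.1 ord_chk i (List.mem_range.2 hi)
  rw [Bool.or_eq_true, beq_iff_eq, Bool.and_eq_true, Bool.and_eq_true] at h
  obtain ⟨⟨ha, hb⟩, hc⟩ := h.resolve_left h1
  have key : ∀ m, ((List.range 6).any fun k => !(itc (acs.getD i 0) m (2 ^ k) == 2 ^ k)) = true →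
      wd tv (aws.getD i []) ^ m ≠ 1 := by
    intro m hm he
    obtain ⟨k, hk, h2⟩ := List.any_eq_true.1 hm
    have hk2 := two_pow_lt (n := 6) (List.mem_range.1 hk)
    have h3 := (ap_pow (rep_a hi) m hk2).1
    rw [he, spAct.one _ hk2] at h3
    rw [← h3, beq_self_eq_true, Bool.not_true] at h2
    exact Bool.noConfusion h2
  apply orderOf_eq_of_pow_and_pow_div_prime (by norm_num)
  · apply spAct.ext
    intro k hk
    have hk2 := two_pow_lt (n := 6) hk
    rw [(ap_pow (rep_a hi) 15 hk2).1, spAct.one _ hk2]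
    exact eq_of_beq (List.all_eq_true.1 ha k (List.mem_range.2 hk))
  · intro p hp hd
    have h15 : p = 3 ∨ p = 5 := by
      have h2 : p ∣ 3 * 5 := hd
      rcases (Nat.Prime.dvd_mul hp).1 h2 with h3 | h3
      · exact Or.inl ((Nat.prime_dvd_prime_iff_eq hp Nat.prime_three).1 h3)
      · exact Or.inr ((Nat.prime_dvd_prime_iff_eq hp Nat.prime_five).1 h3)
    rcases h15 with rfl | rfl
    · exact key 5 hb
    · exact key 3 hc

/-- words in two elements on codes -/
def wab (a b : ℕ) (w : List ℕ) (v : ℕ) : ℕ := w.foldr (fun s v => bif s == 0 then apc 6 a v else apc 6 b v) v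

/-- words in two elements -/
def pab (a b : S) : List ℕ → S
  | [] => 1
  | s :: w => (bif s == 0 then a else b) * pab a b w

theorem pab_mem (a b : S) (w : List ℕ) : pab a b w ∈ Subgroup.closure {a, b} := by
  induction w with
  | nil => exact one_mem _
  | cons s w ih =>
    rw [pab]
    refine mul_mem ?_ ih
    cases s == 0
    · exact Subgroup.subset_closure (Or.inr rfl)
    · exact Subgroup.subset_closure (Or.inl rfl)

theorem ap_pab {a b : S} {ca cb : ℕ} (ha : spAct.Rep a ca) (hb : spAct.Rep b cb) (w : List ℕ) {v : ℕ}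
    (hv : v < 64) : spAct.ap (pab a b w) v = wab ca cb w v := by
  induction w with
  | nil => exact spAct.one v hv
  | cons s w ih =>
    have hlt : wab ca cb w v < 64 := by rw [← ih]; exact spAct.lt _ _ hv
    rw [pab, spAct.mul _ _ _ hv, ih]
    show _ = (bif s == 0 then apc 6 ca (wab ca cb w v) else apc 6 cb (wab ca cb w v))
    cases s == 0
    · rw [cond_false, cond_false, spAct.ap_eq hb hlt]
    · rw [cond_true, cond_true, spAct.ap_eq ha hlt]

/-- seventh power of a word -/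
def w7 (w : List ℕ) : List ℕ := w ++ (w ++ (w ++ (w ++ (w ++ (w ++ w)))))

theorem pab_append (a b : S) (w w' : List ℕ) : pab a b (w ++ w') = pab a b w * pab a b w' := by
  induction w with
  | nil => rw [List.nil_append, pab, one_mul]
  | cons s w ih => rw [List.cons_append, pab, pab, ih, mul_assoc]

theorem seven_chk : ((List.range 30).all fun i => (i == 0) || (i == 1) || (((List.range 6).all fun k =>
    wab (acs.getD i 0) (bcs.getD i 0) (w7 (sws.getD i [])) (2 ^ k) == 2 ^ k) && ((List.range 6).any fun k =>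
    !(wab (acs.getD i 0) (bcs.getD i 0) (sws.getD i []) (2 ^ k) == 2 ^ k)))) = true := by decide +kernel

/-- the group generated by the two words has an element of order 7 -/
theorem seven {i : ℕ} (hi : i < 30) (h0 : i ≠ 0) (h1 : i ≠ 1) :
    ∃ x ∈ Subgroup.closure {wd tv (aws.getD i []), wd tv (bws.getD i [])}, orderOf x = 7 := by
  have h := List.all_eq_true.1 seven_chk i (List.mem_range.2 hi)
  rw [Bool.or_eq_true, Bool.or_eq_true, beq_iff_eq, beq_iff_eq, Bool.and_eq_true] at h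
  have h2 := h.resolve_left (by tauto)
  refine ⟨pab _ _ (sws.getD i []), pab_mem _ _ _, ?_⟩
  have : Fact (Nat.Prime 7) := ⟨by norm_num⟩
  apply orderOf_eq_prime
  · have h3 : pab (wd tv (aws.getD i [])) (wd tv (bws.getD i [])) (sws.getD i []) ^ 7 =
        pab (wd tv (aws.getD i [])) (wd tv (bws.getD i [])) (w7 (sws.getD i [])) := by
      rw [w7]
      simp only [pab_append, pow_succ, pow_zero, one_mul, mul_assoc]
    rw [h3]
    apply spAct.ext
    intro k hk
    have hk2 := two_pow_lt (n := 6) hk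
    rw [ap_pab (rep_a hi) (rep_b hi) _ hk2, spAct.one _ hk2]
    exact eq_of_beq (List.all_eq_true.1 h2.1 k (List.mem_range.2 hk))
  · intro he
    obtain ⟨k, hk, h4⟩ := List.any_eq_true.1 h2.2
    have hk2 := two_pow_lt (n := 6) (List.mem_range.1 hk)
    rw [← ap_pab (rep_a hi) (rep_b hi) _ hk2, he, spAct.one _ hk2, beq_self_eq_true, Bool.not_true] at h4
    exact Bool.noConfusion h4

theorem rws_one : wd tv (rws.getD 1 []) = tr (enc 1) := by
  show tv 0 * 1 = _
  rw [mul_one]
  rfl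

/-- ABSTRACT FORM: every element of `Sp₆(2)`, not `1` and not a transvection, is a commutator `[a, b]` with `a` of order
`15` and an element of order `7` in `⟨a, b⟩`. -/
theorem oreF_abs (g : S) (h1 : g ≠ 1) (ht : ∀ u : V, g ≠ tr u) :
    ∃ a b : S, g = a * b * a⁻¹ * b⁻¹ ∧ orderOf a = 15 ∧ ∃ x ∈ Subgroup.closure {a, b}, orderOf x = 7 := by
  obtain ⟨i, hi, h, e⟩ := exists_rep30 g
  have hi0 : i ≠ 0 := by
    rintro rfl
    apply h1
    have e' : h * g * h⁻¹ = 1 := e
    rw [mul_inv_eq_one, mul_eq_left] at e'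
    exact e'
  have hi1 : i ≠ 1 := by
    rintro rfl
    rw [rws_one] at e
    apply ht (act h⁻¹ (enc 1))
    rw [← Cfsg.Agent.SporRec.TwoSp6.Sp.conj_tr, ← e]
    group
  obtain ⟨x, hx, hx7⟩ := seven hi hi0 hi1
  refine ⟨h⁻¹ * wd tv (aws.getD i []) * h, h⁻¹ * wd tv (bws.getD i []) * h, ?_, ?_, h⁻¹ * x * h, ?_, ?_⟩
  · have e2 : g = h⁻¹ * (h * g * h⁻¹) * h := by group
    rw [e2, e, comm30 hi]
    group
  · have h3 : h⁻¹ * wd tv (aws.getD i []) * h = (MulAut.conj h⁻¹) (wd tv (aws.getD i [])) := by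
      rw [MulAut.conj_apply, inv_inv]
    rw [h3, MulEquiv.orderOf_eq, order15 hi hi1]
  · have h3 : ∀ y : S, h⁻¹ * y * h = (MulAut.conj h⁻¹) y := by
      intro y
      rw [MulAut.conj_apply, inv_inv]
    have h4 : (MulAut.conj h⁻¹).toMonoidHom x ∈
        (Subgroup.closure {wd tv (aws.getD i []), wd tv (bws.getD i [])}).map (MulAut.conj h⁻¹).toMonoidHom :=
      Subgroup.mem_map_of_mem _ hx
    rw [MonoidHom.map_closure, Set.image_pair] at h4
    rw [h3, h3, h3]
    exact h4
  · have h3 : h⁻¹ * x * h = (MulAut.conj h⁻¹) x := by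
      rw [MulAut.conj_apply, inv_inv]
    rw [h3, MulEquiv.orderOf_eq, hx7]

end Cfsg.Agent.H612.Ore
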