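import Mathlib

/-!
# Class cover trees for isometry groups over `F₂`

A finite group `G` acts linearly on bit vectors `v < 2 ^ n` (addition is `^^^`), it preserves a form
`B` and a function `Q`, and every matrix (coded by one natural number, column `i` = bits `n i .. n i + n - 1`)
which preserves `B` and `Q` on the basis comes from an element of `G`.  A tree certificate shows that every
element of `G` is conjugate to one of finitely many explicit matrices.
-/

set_option autoImplicit false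

namespace Cfsg.Agent.H612.Ore

/-- column `i` of a matrix code -/
def col (n c i : ℕ) : ℕ := (c >>> (n * i)) % 2 ^ n

/-- `∑_{i < k} v_i col i` -/
def apk (n c : ℕ) (v : ℕ) : ℕ → ℕ
  | 0 => 0
  | k + 1 => bif v.testBit k then apk n c v k ^^^ col n c k else apk n c v k

/-- the matrix code applied to a bit vector -/
def apc (n c v : ℕ) : ℕ := apk n c v n

/-- linear isometric action on bit vectors -/
structure Act (G : Type*) [Group G] (n : ℕ) (B : ℕ → ℕ → Bool) (Q : ℕ → Bool) where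
  ap : G → ℕ → ℕ
  one : ∀ v, v < 2 ^ n → ap 1 v = v
  mul : ∀ g h v, v < 2 ^ n → ap (g * h) v = ap g (ap h v)
  lt : ∀ g v, v < 2 ^ n → ap g v < 2 ^ n
  xor : ∀ g u v, u < 2 ^ n → v < 2 ^ n → ap g (u ^^^ v) = ap g u ^^^ ap g v
  formB : ∀ g u v, u < 2 ^ n → v < 2 ^ n → B (ap g u) (ap g v) = B u v
  formQ : ∀ g u, u < 2 ^ n → Q (ap g u) = Q u
  faithful : ∀ g, (∀ i, i < n → ap g (2 ^ i) = 2 ^ i) → g = 1
  real : ∀ c : ℕ, (∀ i, i < n → ∀ j, j < n → B (col n c i) (col n c j) = B (2 ^ i) (2 ^ j)) →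
    (∀ i, i < n → Q (col n c i) = Q (2 ^ i)) → ∃ g : G, ∀ i, i < n → ap g (2 ^ i) = col n c i

section act

variable {G : Type*} [Group G] {n : ℕ} {B : ℕ → ℕ → Bool} {Q : ℕ → Bool} (A : Act G n B Q)

/-- the element `g` has the matrix code `c` -/
def Act.Rep (g : G) (c : ℕ) : Prop := ∀ i, i < n → A.ap g (2 ^ i) = col n c i

theorem Act.ap_zero (g : G) : A.ap g 0 = 0 := by
  have h := A.xor g 0 0 (Nat.two_pow_pos n) (Nat.two_pow_pos n)
  rw [Nat.xor_self, Nat.xor_self] at h
  exact h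

theorem mod_succ (v k : ℕ) : v % 2 ^ (k + 1) = bif v.testBit k then (v % 2 ^ k) ^^^ 2 ^ k else v % 2 ^ k := by
  apply Nat.eq_of_testBit_eq
  intro i
  cases hb : v.testBit k
  · rw [cond_false, Nat.testBit_mod_two_pow, Nat.testBit_mod_two_pow]
    rcases lt_trichotomy i k with h | h | h
    · simp [h, Nat.lt_succ_of_lt h]
    · subst h; simp [hb]
    · have h1 : ¬ i < k := by omega
      have h2 : ¬ i < k + 1 := by omega
      simp [h1, h2]
  · rw [cond_true, Nat.testBit_xor, Nat.testBit_mod_two_pow, Nat.testBit_mod_two_pow, Nat.testBit_two_pow]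
    rcases lt_trichotomy i k with h | h | h
    · have h3 : ¬ k = i := by omega
      simp [h, Nat.lt_succ_of_lt h, h3]
    · subst h; simp [hb]
    · have h1 : ¬ i < k := by omega
      have h2 : ¬ i < k + 1 := by omega
      have h3 : ¬ k = i := by omega
      simp [h1, h2, h3]

theorem Act.ap_mod {g : G} {c : ℕ} (h : A.Rep g c) (v : ℕ) :
    ∀ k, k ≤ n → A.ap g (v % 2 ^ k) = apk n c v k := by
  intro k
  induction k with
  | zero => intro _; rw [pow_zero, Nat.mod_one]; exact A.ap_zero g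
  | succ k ih =>
    intro hk
    have ih' := ih (by omega)
    rw [mod_succ, apk]
    cases v.testBit k
    · exact ih'
    · rw [cond_true, cond_true, A.xor, ih', h k (by omega)]
      · exact lt_of_lt_of_le (Nat.mod_lt _ (Nat.two_pow_pos k)) (Nat.pow_le_pow_right (by norm_num) (by omega))
      · exact Nat.pow_lt_pow_right (by norm_num) (by omega)

theorem Act.ap_eq {g : G} {c : ℕ} (h : A.Rep g c) {v : ℕ} (hv : v < 2 ^ n) : A.ap g v = apc n c v := by
  have h1 := A.ap_mod h v n le_rfl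
  rwa [Nat.mod_eq_of_lt hv] at h1

theorem Act.inv_ap (g : G) {v : ℕ} (hv : v < 2 ^ n) : A.ap g⁻¹ (A.ap g v) = v := by
  rw [← A.mul _ _ _ hv, inv_mul_cancel, A.one _ hv]

theorem Act.ap_inv (g : G) {v : ℕ} (hv : v < 2 ^ n) : A.ap g (A.ap g⁻¹ v) = v := by
  rw [← A.mul _ _ _ hv, mul_inv_cancel, A.one _ hv]

theorem Act.inj (g : G) {u v : ℕ} (hu : u < 2 ^ n) (hv : v < 2 ^ n) (h : A.ap g u = A.ap g v) : u = v := by
  rw [← A.inv_ap g hu, ← A.inv_ap g hv, h]

theorem two_pow_lt {i : ℕ} (hi : i < n) : 2 ^ i < 2 ^ n := Nat.pow_lt_pow_right (by norm_num) hi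

/-- equality is tested on the basis -/
theorem Act.ext {g h : G} (H : ∀ i, i < n → A.ap g (2 ^ i) = A.ap h (2 ^ i)) : g = h := by
  have h1 : h⁻¹ * g = 1 := by
    apply A.faithful
    intro i hi
    rw [A.mul _ _ _ (two_pow_lt hi), H i hi, A.inv_ap _ (two_pow_lt hi)]
  rw [inv_mul_eq_one] at h1
  exact h1.symm

/-- valid matrix codes -/
def isom (n : ℕ) (B : ℕ → ℕ → Bool) (Q : ℕ → Bool) (c : ℕ) : Bool :=
  (List.range n).all fun i => (Q (col n c i) == Q (2 ^ i)) &&
    (List.range n).all fun j => B (col n c i) (col n c j) == B (2 ^ i) (2 ^ j)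

theorem Act.exists_rep {c : ℕ} (h : isom n B Q c = true) : ∃ g : G, A.Rep g c := by
  rw [isom, List.all_eq_true] at h
  apply A.real c
  · intro i hi j hj
    have h1 := h i (List.mem_range.2 hi)
    rw [Bool.and_eq_true, List.all_eq_true] at h1
    exact eq_of_beq (h1.2 j (List.mem_range.2 hj))
  · intro i hi
    have h1 := h i (List.mem_range.2 hi)
    rw [Bool.and_eq_true] at h1
    exact eq_of_beq h1.1

/-! ## States and trees -/

/-- a partial matrix: `g (2 ^ i) = y` for `(i, y)` in the list -/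
abbrev State := List (ℕ × ℕ)

/-- consistency of an element with a state -/
def Act.Con (g : G) (s : State) : Prop := ∀ p ∈ s, p.1 < n ∧ A.ap g (2 ^ p.1) = p.2

/-- the vectors in the span of the assigned basis vectors, with their images -/
def spanp : State → List (ℕ × ℕ)
  | [] => [(0, 0)]
  | p :: s => spanp s ++ (spanp s).map fun u => (u.1 ^^^ 2 ^ p.1, u.2 ^^^ p.2)

theorem Act.con_span {g : G} {s : State} (h : A.Con g s) : ∀ u ∈ spanp s, u.1 < 2 ^ n ∧ A.ap g u.1 = u.2 := by
  induction s with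
  | nil =>
    intro u hu
    rw [spanp, List.mem_singleton] at hu
    subst hu
    exact ⟨Nat.two_pow_pos n, A.ap_zero g⟩
  | cons p s ih =>
    intro u hu
    have ih' := ih fun q hq => h q (List.mem_cons_of_mem _ hq)
    have hp := h p List.mem_cons_self
    rw [spanp, List.mem_append, List.mem_map] at hu
    rcases hu with hu | ⟨w, hw, rfl⟩
    · exact ih' u hu
    · obtain ⟨h1, h2⟩ := ih' w hw
      refine ⟨Nat.xor_lt_two_pow h1 (two_pow_lt hp.1), ?_⟩
      rw [A.xor _ _ _ h1 (two_pow_lt hp.1), h2, hp.2]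

/-- certificate trees (left child, right sibling) -/
inductive Tree
  /-- no more children -/
  | nil : Tree
  /-- the child `y` completes the matrix; it is `c * rep idx * c⁻¹` -/
  | leaf (y idx c : ℕ) (sib : Tree) : Tree
  /-- the child `y`; there the basis vector `j` is treated next, `mv` are the moves -/
  | node (y j : ℕ) (mv : List (ℕ × ℕ)) (kids sib : Tree) : Tree

/-- images of the children -/
def Tree.keys : Tree → List ℕ
  | .nil => []
  | .leaf y _ _ sib => y :: sib.keys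
  | .node y _ _ _ sib => y :: sib.keys

variable (n B Q) in
/-- the image `y` of the basis vector `j` is impossible -/
def bad (C : ℕ → ℕ → Bool) (s : State) (j y : ℕ) : Bool :=
  !(Q y == Q (2 ^ j)) || !(s.all fun p => B y p.2 == B (2 ^ j) (2 ^ p.1)) || !(B y y == B (2 ^ j) (2 ^ j)) ||
    ((spanp s).any fun u => ((u.2 == y) && !(u.1 == 2 ^ j)) || !(C (u.1 ^^^ 2 ^ j) (u.2 ^^^ y)))

variable (n B Q) in
/-- a move is valid -/
def okmv (s : State) (j y h : ℕ) (ks : List ℕ) : Bool :=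
  isom n B Q h && (col n h j == 2 ^ j) && (s.all fun p => (col n h p.1 == 2 ^ p.1) && (apc n h p.2 == p.2)) &&
    ks.contains (apc n h y)

variable (n B Q) in
/-- all the images of the basis vector `j` are covered -/
def covered (C : ℕ → ℕ → Bool) (s : State) (j : ℕ) (mv : List (ℕ × ℕ)) (ks : List ℕ) : Bool :=
  Nat.blt j n &&
  (List.range (2 ^ n)).all fun y => bad B Q C s j y || ks.contains y ||
    mv.any fun m => (m.1 == y) && okmv n B Q s j y m.2 ks

/-- the code of a state -/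
def code (n : ℕ) (s : State) : ℕ := s.foldr (fun p a => a + (p.2 <<< (n * p.1))) 0

variable (n B Q) in
/-- a leaf is valid -/
def okleaf (reps : List ℕ) (s : State) (idx c : ℕ) : Bool :=
  ((List.range n).all fun i => s.any fun p => (p.1 == i) && (p.2 == col n (code n s) i)) &&
    isom n B Q c && Nat.blt idx reps.length && (List.range n).all fun i =>
      apc n (code n s) (col n c i) == apc n c (col n (reps.getD idx 0) i)

variable (n B Q) in
/-- the checker -/
def chk (C : ℕ → ℕ → Bool) (reps : List ℕ) : Tree → State → ℕ → Bool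
  | .nil, _, _ => true
  | .leaf y idx c sib, s, j => okleaf n B Q reps ((j, y) :: s) idx c && chk C reps sib s j
  | .node y j' mv kids sib, s, j =>
    covered n B Q C ((j, y) :: s) j' mv kids.keys && (chk C reps kids ((j, y) :: s) j' && chk C reps sib s j)

variable (reps : List ℕ)

/-- `g` is conjugate to an element with one of the codes `reps` -/
def Act.Good (g : G) : Prop := ∃ r ∈ reps, ∃ h x : G, A.Rep x r ∧ g = h * x * h⁻¹

theorem Act.good_conj {g h : G} (H : A.Good reps (h * g * h⁻¹)) : A.Good reps g := by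
  obtain ⟨r, hr, k, x, hx, e⟩ := H
  refine ⟨r, hr, h⁻¹ * k, x, hx, ?_⟩
  have e1 : g = h⁻¹ * (h * g * h⁻¹) * h := by group
  rw [e1, e]
  group

theorem col_lt (n c i : ℕ) : col n c i < 2 ^ n := Nat.mod_lt _ (Nat.two_pow_pos n)

theorem Act.good_of_leaf {s : State} {idx c : ℕ} (hok : okleaf n B Q reps s idx c = true)
    (hrep : ∀ r ∈ reps, isom n B Q r = true) {g : G} (hg : A.Con g s) : A.Good reps g := by
  rw [okleaf, Bool.and_eq_true, Bool.and_eq_true, Bool.and_eq_true] at hok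
  obtain ⟨⟨⟨h1, h2⟩, h3⟩, h4⟩ := hok
  have hgr : A.Rep g (code n s) := by
    intro i hi
    have h5 := List.all_eq_true.1 h1 i (List.mem_range.2 hi)
    obtain ⟨p, hp, h6⟩ := List.any_eq_true.1 h5
    rw [Bool.and_eq_true] at h6
    have h7 := hg p hp
    rw [← eq_of_beq h6.2, ← h7.2, eq_of_beq h6.1]
  obtain ⟨k, hk⟩ := A.exists_rep h2
  have h3' : idx < reps.length := by rw [Nat.blt_eq] at h3; exact h3
  have hm : reps.getD idx 0 ∈ reps := by
    rw [List.getD_eq_getElem _ _ h3']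
    exact List.getElem_mem h3'
  obtain ⟨x, hx⟩ := A.exists_rep (hrep _ hm)
  refine ⟨_, hm, k, x, hx, ?_⟩
  have h5 : g * k = k * x := by
    apply A.ext
    intro i hi
    have h6 := eq_of_beq (List.all_eq_true.1 h4 i (List.mem_range.2 hi))
    rw [A.mul _ _ _ (two_pow_lt hi), A.mul _ _ _ (two_pow_lt hi), hk i hi, hx i hi,
      A.ap_eq hgr (col_lt _ _ _), A.ap_eq hk (col_lt _ _ _), h6]
  rw [← h5]
  group

variable {reps} {C : ℕ → ℕ → Bool}
  (hC : ∀ g : G, ∀ u v, u < 2 ^ n → v < 2 ^ n → C (A.ap g u) (A.ap g v) = C u v)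

include hC in
theorem Act.con_conj {g h : G} (hg : ∀ v, v < 2 ^ n → C v (A.ap g v) = true) :
    ∀ v, v < 2 ^ n → C v (A.ap (h * g * h⁻¹) v) = true := by
  intro v hv
  have h1 := A.lt h⁻¹ v hv
  have h2 := A.lt g _ h1
  rw [A.mul _ _ _ hv, A.mul _ _ _ h1]
  have h3 := hC h (A.ap h⁻¹ v) (A.ap g (A.ap h⁻¹ v)) h1 h2
  rw [A.ap_inv _ hv] at h3
  rw [h3]
  exact hg _ h1

include hC in
/-- soundness of one branching -/
theorem Act.sound_step {s : State} {j : ℕ} {mv : List (ℕ × ℕ)} {ks : List ℕ}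
    (hcov : covered n B Q C s j mv ks = true)
    (hks : ∀ y ∈ ks, ∀ g : G, (∀ v, v < 2 ^ n → C v (A.ap g v) = true) → A.Con g ((j, y) :: s) → A.Good reps g) :
    ∀ g : G, (∀ v, v < 2 ^ n → C v (A.ap g v) = true) → A.Con g s → A.Good reps g := by
  intro g hgC hg
  rw [covered, Bool.and_eq_true] at hcov
  have hj : j < n := by have := hcov.1; rw [Nat.blt_eq] at this; exact this
  have hy := A.lt g _ (two_pow_lt hj)
  obtain ⟨y, ey⟩ : ∃ y, y = A.ap g (2 ^ j) := ⟨_, rfl⟩
  rw [← ey] at hy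
  have h1 := List.all_eq_true.1 hcov.2 y (List.mem_range.2 hy)
  rw [Bool.or_eq_true, Bool.or_eq_true] at h1
  rcases h1 with (h1 | h1) | h1
  · -- impossible
    exfalso
    rw [bad, Bool.or_eq_true, Bool.or_eq_true, Bool.or_eq_true] at h1
    rcases h1 with ((h1 | h1) | h1) | h1
    · rw [Bool.not_eq_true', beq_eq_false_iff_ne] at h1
      apply h1
      rw [ey]
      exact A.formQ _ _ (two_pow_lt hj)
    · rw [Bool.not_eq_true', ← Bool.not_eq_true, List.all_eq_true] at h1
      apply h1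
      intro p hp
      have h2 := hg p hp
      rw [beq_iff_eq, ← h2.2, ey]
      exact A.formB _ _ _ (two_pow_lt hj) (two_pow_lt h2.1)
    · rw [Bool.not_eq_true', beq_eq_false_iff_ne] at h1
      apply h1
      rw [ey]
      exact A.formB _ _ _ (two_pow_lt hj) (two_pow_lt hj)
    · obtain ⟨u, hu, h2⟩ := List.any_eq_true.1 h1
      obtain ⟨h3, h4⟩ := A.con_span hg u hu
      rw [Bool.or_eq_true] at h2
      rcases h2 with h2 | h2
      · rw [Bool.and_eq_true, beq_iff_eq, Bool.not_eq_true', beq_eq_false_iff_ne] at h2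
        apply h2.2
        apply A.inj g h3 (two_pow_lt hj)
        rw [h4, h2.1, ey]
      · rw [Bool.not_eq_true', ← h4, ey, ← A.xor _ _ _ h3 (two_pow_lt hj),
          hgC _ (Nat.xor_lt_two_pow h3 (two_pow_lt hj))] at h2
        exact Bool.noConfusion h2
  · rw [List.contains_iff_mem] at h1
    apply hks y h1 g hgC
    intro p hp
    rcases List.mem_cons.1 hp with rfl | hp
    · exact ⟨hj, ey.symm⟩
    · exact hg p hp
  · obtain ⟨m, -, h2⟩ := List.any_eq_true.1 h1
    rw [Bool.and_eq_true, okmv, Bool.and_eq_true, Bool.and_eq_true, Bool.and_eq_true] at h2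
    obtain ⟨-, ⟨⟨h3, h4⟩, h5⟩, h6⟩ := h2
    obtain ⟨h, hh⟩ := A.exists_rep h3
    rw [List.contains_iff_mem] at h6
    apply A.good_conj reps (h := h)
    have hhj : A.ap h (2 ^ j) = 2 ^ j := by rw [hh j hj, eq_of_beq h4]
    have hinv : ∀ v, v < 2 ^ n → A.ap h v = v → A.ap h⁻¹ v = v := by
      intro v hv e
      conv_lhs => rw [← e]
      exact A.inv_ap h hv
    apply hks _ h6 _ (A.con_conj hC hgC)
    intro p hp
    rcases List.mem_cons.1 hp with rfl | hp
    · refine ⟨hj, ?_⟩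
      show A.ap (h * g * h⁻¹) (2 ^ j) = apc n m.2 y
      rw [A.mul _ _ _ (two_pow_lt hj), hinv _ (two_pow_lt hj) hhj, A.mul _ _ _ (two_pow_lt hj), ← ey,
        A.ap_eq hh hy]
    · have h7 := hg p hp
      have h8 := List.all_eq_true.1 h5 p hp
      rw [Bool.and_eq_true] at h8
      refine ⟨h7.1, ?_⟩
      have h9 : A.ap h (2 ^ p.1) = 2 ^ p.1 := by rw [hh _ h7.1, eq_of_beq h8.1]
      have hlt : p.2 < 2 ^ n := by rw [← h7.2]; exact A.lt _ _ (two_pow_lt h7.1)
      rw [A.mul _ _ _ (two_pow_lt h7.1), hinv _ (two_pow_lt h7.1) h9, A.mul _ _ _ (two_pow_lt h7.1), h7.2,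
        A.ap_eq hh hlt, eq_of_beq h8.2]

include hC in
theorem Act.sound (hrep : ∀ r ∈ reps, isom n B Q r = true) (T : Tree) :
    ∀ (s : State) (j : ℕ), chk n B Q C reps T s j = true →
      ∀ y ∈ T.keys, ∀ g : G, (∀ v, v < 2 ^ n → C v (A.ap g v) = true) → A.Con g ((j, y) :: s) → A.Good reps g := by
  induction T with
  | nil =>
    intro s j _ y hy
    rw [Tree.keys] at hy
    simp at hy
  | leaf y idx c sib ih =>
    intro s j h z hz g hgC hg
    rw [chk, Bool.and_eq_true] at h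
    rw [Tree.keys, List.mem_cons] at hz
    rcases hz with rfl | hz
    · exact A.good_of_leaf reps h.1 hrep hg
    · exact ih s j h.2 z hz g hgC hg
  | node y j' mv kids sib ih1 ih2 =>
    intro s j h z hz g hgC hg
    rw [chk, Bool.and_eq_true, Bool.and_eq_true] at h
    rw [Tree.keys, List.mem_cons] at hz
    rcases hz with rfl | hz
    · exact A.sound_step hC h.1 (ih1 _ _ h.2.1) g hgC hg
    · exact ih2 s j h.2.2 z hz g hgC hg

variable (n B Q) in
/-- the root of a tree for the elements `g` with `D v (g v)` for some `v` -/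
def rootcov (D : ℕ → ℕ → Bool) (tr : List ℕ) (j : ℕ) (mv : List (ℕ × ℕ)) (ks : List ℕ) : Bool :=
  Nat.blt j n &&
  ((List.range (2 ^ n)).all fun v => (v == 0) || tr.any fun h => isom n B Q h && (apc n h v == 2 ^ j)) &&
  (List.range (2 ^ n)).all fun y => !(D (2 ^ j) y) || ks.contains y ||
    mv.any fun m => (m.1 == y) && okmv n B Q [] j y m.2 ks

include hC in
theorem Act.root (hrep : ∀ r ∈ reps, isom n B Q r = true) (T : Tree) {D : ℕ → ℕ → Bool}
    (hD : ∀ g : G, ∀ u v, u < 2 ^ n → v < 2 ^ n → D (A.ap g u) (A.ap g v) = D u v)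
    (hD0 : ∀ w, D 0 w = false) {tr : List ℕ} {j : ℕ} {mv : List (ℕ × ℕ)}
    (hroot : rootcov n B Q D tr j mv T.keys = true) (hT : chk n B Q C reps T [] j = true)
    {g : G} (hg : ∀ v, v < 2 ^ n → C v (A.ap g v) = true) {v : ℕ} (hv : v < 2 ^ n)
    (hDv : D v (A.ap g v) = true) : A.Good reps g := by
  rw [rootcov, Bool.and_eq_true, Bool.and_eq_true] at hroot
  obtain ⟨⟨h1, h2⟩, h3⟩ := hroot
  have hj : j < n := by rw [Nat.blt_eq] at h1; exact h1
  have h4 := List.all_eq_true.1 h2 v (List.mem_range.2 hv)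
  rw [Bool.or_eq_true] at h4
  rcases h4 with h4 | h4
  · rw [beq_iff_eq] at h4
    rw [h4, hD0] at hDv
    exact Bool.noConfusion hDv
  obtain ⟨c, -, h5⟩ := List.any_eq_true.1 h4
  rw [Bool.and_eq_true, beq_iff_eq] at h5
  obtain ⟨h, hh⟩ := A.exists_rep h5.1
  have hhv : A.ap h v = 2 ^ j := by rw [A.ap_eq hh hv, h5.2]
  apply A.good_conj reps (h := h)
  obtain ⟨g', eg⟩ : ∃ g', g' = h * g * h⁻¹ := ⟨_, rfl⟩
  have hg' : ∀ v, v < 2 ^ n → C v (A.ap g' v) = true := by
    rw [eg]
    exact A.con_conj hC hg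
  have hinv : A.ap h⁻¹ (2 ^ j) = v := by rw [← hhv, A.inv_ap h hv]
  have hDg : D (2 ^ j) (A.ap g' (2 ^ j)) = true := by
    rw [eg, A.mul _ _ _ (two_pow_lt hj), hinv, A.mul _ _ _ hv, ← hhv, hD _ _ _ hv (A.lt _ _ hv)]
    exact hDv
  rw [← eg]
  obtain ⟨y, ey⟩ : ∃ y, y = A.ap g' (2 ^ j) := ⟨_, rfl⟩
  have hy : y < 2 ^ n := by rw [ey]; exact A.lt _ _ (two_pow_lt hj)
  rw [← ey] at hDg
  have h6 := List.all_eq_true.1 h3 y (List.mem_range.2 hy)
  rw [hDg, Bool.not_true, Bool.false_or, Bool.or_eq_true] at h6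
  have hsound := A.sound hC hrep T [] j hT
  rcases h6 with h6 | h6
  · rw [List.contains_iff_mem] at h6
    apply hsound y h6 g' hg'
    intro p hp
    rw [List.mem_singleton] at hp
    subst hp
    exact ⟨hj, ey.symm⟩
  · obtain ⟨m, -, h7⟩ := List.any_eq_true.1 h6
    rw [Bool.and_eq_true, okmv, Bool.and_eq_true, Bool.and_eq_true, Bool.and_eq_true] at h7
    obtain ⟨-, ⟨⟨h8, h9⟩, -⟩, h10⟩ := h7
    obtain ⟨k, hk⟩ := A.exists_rep h8
    rw [List.contains_iff_mem] at h10
    apply A.good_conj reps (h := k)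
    apply hsound _ h10 _ (A.con_conj hC hg')
    intro p hp
    rw [List.mem_singleton] at hp
    subst hp
    refine ⟨hj, ?_⟩
    have hkj : A.ap k (2 ^ j) = 2 ^ j := by rw [hk j hj, eq_of_beq h9]
    have hkj' : A.ap k⁻¹ (2 ^ j) = 2 ^ j := by
      conv_lhs => rw [← hkj]
      exact A.inv_ap k (two_pow_lt hj)
    show A.ap (k * g' * k⁻¹) (2 ^ j) = apc n m.2 y
    rw [A.mul _ _ _ (two_pow_lt hj), hkj', A.mul _ _ _ (two_pow_lt hj), ← ey, A.ap_eq hk hy]

end act

end Cfsg.Agent.H612.Ore
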