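import Cfsg.Agent.H612.Ore.SpSpin

/-!
# Commutators in `Sp₆(2)`: pairs without fixed vectors and without fixed quadratic forms

`oreF_nine` : every `g`, not `1` and not a transvection, is `[a, b]` with `a` of order 9 and an element of
order 7 in `⟨a, b⟩`.  `oreF_forms` : every `g ≠ 1` is `[a, b]` such that `a`, `b` have no common fixed vector on
the natural module and on the spin module, and no common fixed quadratic form (with polar form the symplectic
form; equivalently no fixed vector outside the radical on the dual of the 7-dimensional orthogonal module).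
-/

set_option autoImplicit false

namespace Cfsg.Agent.H612.Ore

open Cfsg Cfsg.Agent.ClassicalGeometry.SympBasic Cfsg.Agent.Co2Type.QModel Cfsg.Agent.Co2Type.Act
open Cfsg.Agent.Co2Type.Coord (uv)
open Cfsg.Agent.SporRec.TwoSp6.Sp (V S om tr act act_one act_mul act_ext act_add act_om act_tr enc enc_xor om_enc
  fN exists_enc conj_tr om_symm)

/-- first words -/
def awn : List (List ℕ) := [[6, 5, 4, 2, 1, 0], [1, 2, 6, 5, 2, 3, 4, 0, 1, 2, 3, 0, 1, 2, 0, 1], [4, 3, 2, 6, 5, 1, 2, 3, 1, 2, 0, 1],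
  [4, 3, 1, 2, 6, 5, 1, 2, 3, 0, 1, 0], [4, 3, 2, 6, 5, 4, 0, 1, 2, 3, 2], [2, 6, 5, 1, 2, 3, 4, 0, 1, 2, 0],
  [6, 5, 4, 1, 2, 3, 0, 1, 0], [4, 3, 2, 6, 5, 3, 1, 2, 0], [2, 6, 5, 4, 3, 0, 1], [3, 2, 6, 5, 3, 4, 3, 0,
  1], [6, 5, 3, 4, 2, 0, 1], [4, 3, 2, 6, 1, 2, 0, 1], [2, 6, 5, 4, 0, 1, 2, 3, 2], [4, 3, 2, 6, 3, 2, 1, 0],
  [6, 5, 4, 2, 3, 0, 1], [6, 5, 4, 2, 3, 0, 1], [4, 3, 2, 6, 5, 0, 1], [2, 6, 3, 4, 2, 3, 0, 1], [2, 6, 5, 3,
  4, 1, 2, 0, 1], [2, 6, 5, 3, 4, 1, 0], [2, 6, 4, 5, 3, 0, 1], [3, 1, 2, 6, 5, 4, 0, 1, 0], [2, 6, 4, 5, 3,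
  0, 1], [2, 6, 4, 2, 3, 2, 0, 1], [3, 2, 6, 5, 4, 1, 0], [2, 6, 5, 3, 4, 0, 1], [2, 6, 5, 4, 3, 1, 0], [1, 2,
  6, 4, 5, 3, 0], [2, 6, 3, 4, 5, 1, 0], [6, 5, 4, 3, 2, 1, 0]]

/-- second words -/
def bwn : List (List ℕ) := [[], [6, 4, 2, 3, 1, 2, 6, 4, 5, 2, 3, 4, 1, 2, 3, 0, 1, 2, 6, 4, 3, 0, 1, 2, 0], [6, 0, 1, 2, 1], [0, 1, 2, 6,
  1], [6, 2, 3, 0, 1, 2, 6, 4, 5, 3, 4, 2, 3, 0, 1, 2, 6, 5, 1, 2, 3, 4, 2, 3, 0, 1], [5, 4, 3, 2, 6, 1, 2, 3,
  0, 1, 2, 6, 4, 5, 1, 2, 3, 4, 1, 2, 3, 2, 0, 1], [5, 4, 3, 2, 6, 5, 4, 1, 2, 3, 0, 1, 2, 6, 4, 5, 1, 2, 3,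
  4, 1, 2, 3, 0, 1, 2, 1], [2, 3, 1, 2, 6, 3, 4, 5, 2, 3, 4, 1, 2, 3, 0, 1, 2, 6, 2, 3, 4, 5, 0, 1], [3, 4, 5,
  0, 1, 0], [4, 0, 1, 0], [4, 5, 0, 1, 0], [6, 4, 5, 0], [2, 3, 1, 2, 6, 3, 0, 1, 2], [3, 4, 5], [2, 6, 2, 3,
  4, 1, 2, 3, 0, 1, 2, 6, 4, 5, 0, 1, 2, 3, 4, 3, 0, 1, 2, 1, 0], [2, 6, 5, 2, 3, 4, 1, 2, 3, 0, 1, 2, 6, 4,
  5, 0, 1, 2, 3, 4, 3, 0, 1, 2, 1, 0], [3, 2, 6, 3, 4, 5, 2, 3, 4, 1, 2, 3, 0, 1, 2, 6, 5, 2, 3, 4, 0, 1, 2,
  3, 0, 1], [2, 6, 5, 2, 3, 4, 1, 2, 3, 0, 1, 2, 6, 2, 3, 4, 5, 0, 1, 2, 3, 4, 2, 3, 2, 1, 0], [2, 6, 3, 4, 5,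
  2, 3, 4, 1, 2, 3, 0, 1, 2, 6, 1, 2, 3, 4, 5, 2, 3, 2, 0, 1, 0], [5, 4, 1, 2, 3, 0, 1, 2, 6, 4, 5, 2, 3, 4,
  1, 2, 3, 0, 1, 2, 6, 2, 3, 4, 5, 2, 1], [3, 4, 0, 1, 0], [4, 5, 0, 1, 2, 0, 1, 0], [3, 4, 1, 2], [5, 3, 0,
  1, 0], [2, 6], [2, 6, 3, 4, 5, 2, 3, 4, 1, 2, 3, 0, 1, 2, 6, 0, 1, 2, 3, 4, 0, 1, 2, 3, 2], [6, 5, 4, 1, 2,
  3, 0, 1, 2, 6, 4, 5, 3, 4, 1, 2, 3, 0, 1, 2, 6, 5, 0, 1, 2, 3, 4, 2, 0, 1], [3, 4, 2], [3, 0, 1, 2, 0, 1,
  0], [2, 6, 4, 5, 2, 3, 4, 1, 2, 3, 0, 1, 2, 6, 3, 4, 5, 2, 3, 4, 0, 1, 2, 1]]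

/-- matrix codes -/
def acn : List ℕ := [38705431706, 11390615012, 30529703747, 30215392592, 49300718399, 43035576144, 16293170771, 54957327550,
  25017583755, 3346757791, 51929366927, 21621261392, 14941031947, 25568887981, 7573474395, 7573474395,
  52210320511, 17519032396, 55284560263, 55080087946, 55082371467, 51793839703, 55082371467, 8400555436,
  51657524318, 55082447243, 25015224458, 63806523785, 4614205834, 22330869930]

/-- matrix codes -/
def bcn : List ℕ := [34630287489, 27975482788, 34532508827, 34796750347, 39414566383, 4279807709, 59480731389, 21314547563,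
  4563862920, 34628583560, 4563812488, 4565910657, 67803825236, 4565697921, 54161019494, 58456003170,
  52087433665, 66449257222, 28581194738, 28281300850, 56103470472, 4733419651, 56092460425, 51808322952,
  34681406529, 35352243448, 26585439431, 55960339841, 56071570839, 37550489377]

/-- spin codes -/
def a8n : List ℕ := [363118148916539016, 8602382111020958877, 17164175852492120214, 2502613075539464257, 8170007889831025389,
  2575551871802282568, 937600899155259584, 6196878100079672443, 865824784121688272, 5317368242842263776,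
  18182271864214394685, 2493042853030269009, 506104164970904803, 18422593448354835850, 651621230813536480,
  651621230813536480, 11077560881560229693, 11938886288790458416, 2935245657243154095, 10676026642463722762,
  14719021275302921997, 17092119343854196540, 14719021275302921997, 6196690526223627998, 11178742038944431656,
  13588617768849377037, 290496513867174048, 14719170518835859209, 15323512069811130528, 290496513665323938]

/-- spin codes -/
def b8n : List ℕ := [9241421688590303745, 18429686861640167136, 17339017788656322829, 8097666606249151246, 1612086745013865727,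
  11354786135288614632, 7535347719039213027, 14953854298728398295, 1525032533272563744, 4938215829205942530,
  4938215830220443680, 12321604710647734320, 2346429216206734335, 3032332130111725584, 4556770738177855911,
  14987001715075334615, 11743428563594707459, 15308152980410558586, 17567594953054051310,
  17554365977041198059, 1525032533086572834, 9819235138565890128, 4551516446375214183, 5809661249288012034,
  2355559008045828615, 8994929340748465673, 16056245530207000087, 3044195950409001078, 11551962019821645140,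
  12499505176321427143]

/-- words of order seven in the two elements -/
def swn : List (List ℕ) := [[], [], [1, 0, 0], [1, 1, 1, 0, 1, 1, 0], [1, 0], [1, 0], [1, 1, 0], [1, 0, 0], [1, 0, 0, 0], [1, 0, 1, 0, 0,
  0], [1, 0, 0, 1, 0, 0, 0], [1, 1, 1, 1, 0, 0], [1, 0], [1, 1, 1, 0], [1, 0, 1, 0, 0, 0], [1, 1, 0, 1, 0, 0],
  [1, 0, 0], [1, 1, 0], [1, 0, 0], [1], [1, 0, 0, 0], [1, 0, 0, 0], [1, 1, 1, 0, 0, 0], [1, 0, 0], [1, 0], [1,
  0, 0], [1, 1, 1, 1, 0], [1, 1, 0], [1, 1, 0], [1, 0, 0, 0, 0]]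

theorem codesn : ((List.range 30).all fun i => isCode (awn.getD i []) (acn.getD i 0) &&
    isCode (bwn.getD i []) (bcn.getD i 0)) = true := by decide +kernel

theorem rep_an {i : ℕ} (hi : i < 30) : spAct.Rep (wd tv (awn.getD i [])) (acn.getD i 0) := by
  have h := List.all_eq_true.1 codesn i (List.mem_range.2 hi)
  rw [Bool.and_eq_true] at h
  exact rep_wd h.1

theorem rep_bn {i : ℕ} (hi : i < 30) : spAct.Rep (wd tv (bwn.getD i [])) (bcn.getD i 0) := by
  have h := List.all_eq_true.1 codesn i (List.mem_range.2 hi)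
  rw [Bool.and_eq_true] at h
  exact rep_wd h.2

theorem commn_chk : ((List.range 30).all fun i => (List.range 6).all fun k =>
    apc 6 (acn.getD i 0) (apc 6 (bcn.getD i 0) (2 ^ k)) ==
      apc 6 (reps.getD i 0) (apc 6 (bcn.getD i 0) (apc 6 (acn.getD i 0) (2 ^ k)))) = true := by decide +kernel

/-- the representatives are commutators -/
theorem commn {i : ℕ} (hi : i < 30) : wd tv (rws.getD i []) =
    wd tv (awn.getD i []) * wd tv (bwn.getD i []) * (wd tv (awn.getD i []))⁻¹ * (wd tv (bwn.getD i []))⁻¹ := by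
  have h : wd tv (awn.getD i []) * wd tv (bwn.getD i []) =
      wd tv (rws.getD i []) * (wd tv (bwn.getD i []) * wd tv (awn.getD i [])) := by
    apply spAct.ext
    intro k hk
    have h1 := eq_of_beq (List.all_eq_true.1 (List.all_eq_true.1 commn_chk i (List.mem_range.2 hi)) k
      (List.mem_range.2 hk))
    have hk2 := two_pow_lt (n := 6) hk
    have hA := apc_lt _ hk2 (rep_an hi)
    have hB := apc_lt _ hk2 (rep_bn hi)
    have hBA := apc_lt _ hA (rep_bn hi)
    rw [spAct.mul _ _ _ hk2, spAct.mul _ _ _ hk2, spAct.mul _ _ _ hk2, spAct.ap_eq (rep_bn hi) hk2,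
      spAct.ap_eq (rep_an hi) hB, spAct.ap_eq (rep_an hi) hk2, spAct.ap_eq (rep_bn hi) hA,
      spAct.ap_eq (rep_r hi) hBA]
    exact h1
  rw [h]
  group

theorem fix6n_chk : ((List.range 30).all fun i => (List.range 64).all fun v => (v == 0) ||
    !(apc 6 (acn.getD i 0) v == v) || !(apc 6 (bcn.getD i 0) v == v)) = true := by decide +kernel

theorem fix6n {i : ℕ} (hi : i < 30) {x : V} (ha : act (wd tv (awn.getD i [])) x = x)
    (hb : act (wd tv (bwn.getD i [])) x = x) : x = 0 := by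
  obtain ⟨v, hv, rfl⟩ := exists_enc x
  have h := List.all_eq_true.1 (List.all_eq_true.1 fix6n_chk i (List.mem_range.2 hi)) v (List.mem_range.2 hv)
  have h1 : apc 6 (acn.getD i 0) v = v := by
    rw [← spAct.ap_eq (rep_an hi) hv, spAct_ap, ha, cd_enc v hv]
  have h2 : apc 6 (bcn.getD i 0) v = v := by
    rw [← spAct.ap_eq (rep_bn hi) hv, spAct_ap, hb, cd_enc v hv]
  rw [h1, h2, beq_self_eq_true, Bool.not_true, Bool.or_false, Bool.or_false, beq_iff_eq] at h
  subst h
  funext i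
  rcases i with i | i <;> simp [enc, Cfsg.Agent.SporRec.TwoSp6.Sp.bitf]

theorem codes8n : ((List.range 30).all fun i => isCode8 (awn.getD i []) (a8n.getD i 0) &&
    isCode8 (bwn.getD i []) (b8n.getD i 0)) = true := by decide +kernel

theorem fix8n_chk : ((List.range 30).all fun i => (List.range 256).all fun v => (v == 0) ||
    !(apc 8 (a8n.getD i 0) v == v) || !(apc 8 (b8n.getD i 0) v == v)) = true := by decide +kernel

theorem fix8n {W : Type*} [AddCommGroup W] [Module (ZMod 2) W] (rho : S →* (W ≃ₗ[ZMod 2] W))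
    (c : W ≃ₗ[ZMod 2] (Fin 8 → ZMod 2)) (hact : ∀ j, j < 7 → ∀ I : Fin 8,
      c (rho (transv (uv j) 1) (c.symm (Pi.single I 1))) = (dec (img j I)).v)
    {i : ℕ} (hi : i < 30) {x : W} (ha : rho (wd tv (awn.getD i [])) x = x)
    (hb : rho (wd tv (bwn.getD i [])) x = x) : x = 0 := by
  obtain ⟨v, hv, h0⟩ := exists_vec8 (c x)
  have hc := List.all_eq_true.1 codes8n i (List.mem_range.2 hi)
  rw [Bool.and_eq_true] at hc
  have key : ∀ {w : List ℕ} {m : ℕ}, isCode8 w m = true → rho (wd tv w) x = x → apc 8 m v = v := by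
    intro w m hm hx
    have hlt : apc 8 m v < 256 := apk_lt 8 _ _ 8
    apply vec8_inj hlt hv
    rw [← L8_code rho c hact hm hv, L8_apply, h0, c.symm_apply_apply, hx]
  have h := List.all_eq_true.1 (List.all_eq_true.1 fix8n_chk i (List.mem_range.2 hi)) v (List.mem_range.2 hv)
  rw [key hc.1 ha, key hc.2 hb, beq_self_eq_true, Bool.not_true, Bool.or_false, Bool.or_false, beq_iff_eq] at h
  rw [h, vec8_zero] at h0
  exact (c.map_eq_zero_iff).1 h0.symm

/-- the quadratic form with values `q` on the basis, on codes -/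
def Qr (q v : ℕ) : ℕ → Bool
  | 0 => false
  | k + 1 => bif v.testBit k then (Qr q v k ^^ q.testBit k) ^^ B6 (v % 2 ^ k) (2 ^ k) else Qr q v k

theorem Qr_eq {Q : V → ZMod 2} (hQ : ∀ x y, Q (x + y) = Q x + Q y + om x y) {q : ℕ}
    (hq : ∀ k, k < 6 → Q (enc (2 ^ k)) = if q.testBit k = true then 1 else 0) (v : ℕ) :
    ∀ k, k ≤ 6 → Q (enc (v % 2 ^ k)) = if Qr q v k = true then 1 else 0 := by
  intro k
  induction k with
  | zero =>
    intro _
    rw [pow_zero, Nat.mod_one, Qr]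
    have h0 : (enc 0 : V) = 0 := by decide +kernel
    have h1 := hQ 0 0
    rw [add_zero, Cfsg.Agent.SporRec.TwoSp6.Sp.om_self, add_zero] at h1
    have h2 : ∀ a : ZMod 2, a = a + a → a = 0 := by decide
    rw [h0, h2 _ h1]
    rfl
  | succ k ih =>
    intro hk
    have ih' := ih (by omega)
    rw [mod_succ, Qr]
    cases v.testBit k
    · exact ih'
    · have hlt1 : v % 2 ^ k < 64 :=
        lt_of_lt_of_le (Nat.mod_lt _ (Nat.two_pow_pos k)) (Nat.pow_le_pow_right (by norm_num) (by omega : k ≤ 6))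
      have hlt2 : 2 ^ k < 64 := two_pow_lt (n := 6) (by omega)
      rw [cond_true, cond_true, enc_xor, hQ, ih', hq k (by omega), om_enc, ← B6_eq _ hlt1 _ hlt2]
      cases Qr q v k <;> cases q.testBit k <;> cases B6 (v % 2 ^ k) (2 ^ k) <;> decide

theorem fixQ_chk : ((List.range 30).all fun i => (i == 0) || (List.range 64).all fun q => (List.range 6).any fun k =>
    !(Qr q (col 6 (acn.getD i 0) k) 6 == q.testBit k) || !(Qr q (col 6 (bcn.getD i 0) k) 6 == q.testBit k)) = true := by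
  decide +kernel

theorem exists_q (Q : V → ZMod 2) : ∃ q, q < 64 ∧ ∀ k, k < 6 → Q (enc (2 ^ k)) = if q.testBit k = true then 1 else 0 := by
  have key : ∀ a : Fin 6 → ZMod 2, ∃ q : Fin 64, ∀ k : Fin 6, a k = if (q : ℕ).testBit k = true then 1 else 0 := by
    decide +kernel
  obtain ⟨q, hq⟩ := key (fun k => Q (enc (2 ^ (k : ℕ))))
  exact ⟨q, q.2, fun k hk => hq ⟨k, hk⟩⟩

/-- no common fixed quadratic form -/
theorem fixQ {i : ℕ} (hi : i < 30) (h0 : i ≠ 0) {Q : V → ZMod 2} (hQ : ∀ x y, Q (x + y) = Q x + Q y + om x y)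
    (ha : ∀ x, Q (act (wd tv (awn.getD i [])) x) = Q x) (hb : ∀ x, Q (act (wd tv (bwn.getD i [])) x) = Q x) :
    False := by
  obtain ⟨q, hq, hqk⟩ := exists_q Q
  have h := List.all_eq_true.1 fixQ_chk i (List.mem_range.2 hi)
  rw [Bool.or_eq_true, beq_iff_eq] at h
  have h1 := List.all_eq_true.1 (h.resolve_left h0) q (List.mem_range.2 hq)
  obtain ⟨k, hk, h2⟩ := List.any_eq_true.1 h1
  have hk6 := List.mem_range.1 hk
  have key : ∀ {g : S} {c : ℕ}, spAct.Rep g c → (∀ x, Q (act g x) = Q x) → Qr q (col 6 c k) 6 = q.testBit k := by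
    intro g c hr hx
    have h3 := Qr_eq hQ hqk (col 6 c k) 6 le_rfl
    have h5 : col 6 c k < 2 ^ 6 := col_lt 6 c k
    rw [Nat.mod_eq_of_lt h5] at h3
    have h4 := hx (enc (2 ^ k))
    have h6 : act g (enc (2 ^ k)) = enc (col 6 c k) := by
      rw [← hr k hk6, spAct_ap, enc_cd]
    rw [h6, h3, hqk k hk6] at h4
    have h7 : ∀ a b : Bool, (if a = true then (1 : ZMod 2) else 0) = (if b = true then 1 else 0) → a = b := by decide
    exact h7 _ _ h4
  rw [key (rep_an hi) ha, key (rep_bn hi) hb] at h2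
  simp at h2

theorem ordn_chk : ((List.range 30).all fun i => (i == 0) || (i == 1) || (((List.range 6).all fun k =>
    itc (acn.getD i 0) 9 (2 ^ k) == 2 ^ k) && ((List.range 6).any fun k => !(itc (acn.getD i 0) 3 (2 ^ k) == 2 ^ k)))) =
    true := by decide +kernel

theorem order9 {i : ℕ} (hi : i < 30) (h0 : i ≠ 0) (h1 : i ≠ 1) : orderOf (wd tv (awn.getD i [])) = 9 := by
  have h := List.all_eq_true.1 ordn_chk i (List.mem_range.2 hi)
  rw [Bool.or_eq_true, Bool.or_eq_true, beq_iff_eq, beq_iff_eq, Bool.and_eq_true] at h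
  obtain ⟨ha, hb⟩ := h.resolve_left (by tauto)
  have : Fact (Nat.Prime 3) := ⟨Nat.prime_three⟩
  have h9 : (9 : ℕ) = 3 ^ (1 + 1) := by norm_num
  rw [h9]
  apply orderOf_eq_prime_pow
  · intro he
    obtain ⟨k, hk, h2⟩ := List.any_eq_true.1 hb
    have hk2 := two_pow_lt (n := 6) (List.mem_range.1 hk)
    have h3 := (ap_pow (rep_an hi) 3 hk2).1
    rw [pow_one] at he
    rw [he, spAct.one _ hk2] at h3
    rw [← h3, beq_self_eq_true, Bool.not_true] at h2
    exact Bool.noConfusion h2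
  · apply spAct.ext
    intro k hk
    have hk2 := two_pow_lt (n := 6) hk
    have e9 : (3 : ℕ) ^ (1 + 1) = 9 := by norm_num
    rw [e9, (ap_pow (rep_an hi) 9 hk2).1, spAct.one _ hk2]
    exact eq_of_beq (List.all_eq_true.1 ha k (List.mem_range.2 hk))

theorem sevenn_chk : ((List.range 30).all fun i => (i == 0) || (i == 1) || (((List.range 6).all fun k =>
    wab (acn.getD i 0) (bcn.getD i 0) (w7 (swn.getD i [])) (2 ^ k) == 2 ^ k) && ((List.range 6).any fun k =>
    !(wab (acn.getD i 0) (bcn.getD i 0) (swn.getD i []) (2 ^ k) == 2 ^ k)))) = true := by decide +kernel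

theorem sevenn {i : ℕ} (hi : i < 30) (h0 : i ≠ 0) (h1 : i ≠ 1) :
    ∃ x ∈ Subgroup.closure {wd tv (awn.getD i []), wd tv (bwn.getD i [])}, orderOf x = 7 := by
  have h := List.all_eq_true.1 sevenn_chk i (List.mem_range.2 hi)
  rw [Bool.or_eq_true, Bool.or_eq_true, beq_iff_eq, beq_iff_eq, Bool.and_eq_true] at h
  have h2 := h.resolve_left (by tauto)
  refine ⟨pab _ _ (swn.getD i []), pab_mem _ _ _, ?_⟩
  have : Fact (Nat.Prime 7) := ⟨by norm_num⟩
  apply orderOf_eq_prime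
  · have h3 : pab (wd tv (awn.getD i [])) (wd tv (bwn.getD i [])) (swn.getD i []) ^ 7 =
        pab (wd tv (awn.getD i [])) (wd tv (bwn.getD i [])) (w7 (swn.getD i [])) := by
      rw [w7]
      simp only [pab_append, pow_succ, pow_zero, one_mul, mul_assoc]
    rw [h3]
    apply spAct.ext
    intro k hk
    have hk2 := two_pow_lt (n := 6) hk
    rw [ap_pab (rep_an hi) (rep_bn hi) _ hk2, spAct.one _ hk2]
    exact eq_of_beq (List.all_eq_true.1 h2.1 k (List.mem_range.2 hk))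
  · intro he
    obtain ⟨k, hk, h4⟩ := List.any_eq_true.1 h2.2
    have hk2 := two_pow_lt (n := 6) (List.mem_range.1 hk)
    rw [← ap_pab (rep_an hi) (rep_bn hi) _ hk2, he, spAct.one _ hk2, beq_self_eq_true, Bool.not_true] at h4
    exact Bool.noConfusion h4

/-- every element of `Sp₆(2)`, not `1` and not a transvection, is a commutator `[a, b]` with `a` of order
`9` and an element of order `7` in `⟨a, b⟩` -/
theorem oreF_nine (g : S) (h1 : g ≠ 1) (ht : ∀ u : V, g ≠ tr u) :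
    ∃ a b : S, g = a * b * a⁻¹ * b⁻¹ ∧ orderOf a = 9 ∧ ∃ x ∈ Subgroup.closure {a, b}, orderOf x = 7 := by
  obtain ⟨i, hi, h, e⟩ := exists_rep30 g
  have hi0 : i ≠ 0 := by
    rintro rfl
    apply h1
    have e' : h * g * h⁻¹ = 1 := e
    rw [mul_inv_eq_one, mul_eq_left] at e'
    exact e'
  have hi1 : i ≠ 1 := by
    rintro rfl
    rw [rws_one] at e
    apply ht (act h⁻¹ (enc 1))
    rw [← conj_tr, ← e]
    group
  obtain ⟨x, hx, hx7⟩ := sevenn hi hi0 hi1
  refine ⟨h⁻¹ * wd tv (awn.getD i []) * h, h⁻¹ * wd tv (bwn.getD i []) * h, ?_, ?_, h⁻¹ * x * h, ?_, ?_⟩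
  · have e2 : g = h⁻¹ * (h * g * h⁻¹) * h := by group
    rw [e2, e, commn hi]
    group
  · have h3 : h⁻¹ * wd tv (awn.getD i []) * h = (MulAut.conj h⁻¹) (wd tv (awn.getD i [])) := by
      rw [MulAut.conj_apply, inv_inv]
    rw [h3, MulEquiv.orderOf_eq, order9 hi hi0 hi1]
  · have h3 : ∀ y : S, h⁻¹ * y * h = (MulAut.conj h⁻¹) y := by
      intro y
      rw [MulAut.conj_apply, inv_inv]
    have h4 : (MulAut.conj h⁻¹).toMonoidHom x ∈
        (Subgroup.closure {wd tv (awn.getD i []), wd tv (bwn.getD i [])}).map (MulAut.conj h⁻¹).toMonoidHom :=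
      Subgroup.mem_map_of_mem _ hx
    rw [MonoidHom.map_closure, Set.image_pair] at h4
    rw [h3, h3, h3]
    exact h4
  · have h3 : h⁻¹ * x * h = (MulAut.conj h⁻¹) x := by
      rw [MulAut.conj_apply, inv_inv]
    rw [h3, MulEquiv.orderOf_eq, hx7]

/-- every `g ≠ 1` in `Sp₆(2)` is a commutator `[a, b]` such that `a`, `b` have no common fixed vector on the natural
module, no common fixed vector on the spin module and no common fixed quadratic form. -/
theorem oreF_forms {W : Type*} [AddCommGroup W] [Module (ZMod 2) W] (rho : S →* (W ≃ₗ[ZMod 2] W))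
    (c : W ≃ₗ[ZMod 2] (Fin 8 → ZMod 2)) (hact : ∀ j, j < 7 → ∀ I : Fin 8,
      c (rho (transv (uv j) 1) (c.symm (Pi.single I 1))) = (dec (img j I)).v) (g : S) (hg : g ≠ 1) :
    ∃ a b : S, g = a * b * a⁻¹ * b⁻¹ ∧ (∀ x : V, act a x = x → act b x = x → x = 0) ∧
      (∀ x : W, rho a x = x → rho b x = x → x = 0) ∧
      (∀ Q : V → ZMod 2, (∀ x y, Q (x + y) = Q x + Q y + om x y) → (∀ x, Q (act a x) = Q x) →
        (∀ x, Q (act b x) = Q x) → False) := by
  obtain ⟨i, hi, h, e⟩ := exists_rep30 g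
  have hi0 : i ≠ 0 := by
    rintro rfl
    apply hg
    have e' : h * g * h⁻¹ = 1 := e
    rw [mul_inv_eq_one, mul_eq_left] at e'
    exact e'
  refine ⟨h⁻¹ * wd tv (awn.getD i []) * h, h⁻¹ * wd tv (bwn.getD i []) * h, ?_, ?_, ?_, ?_⟩
  · have e2 : g = h⁻¹ * (h * g * h⁻¹) * h := by group
    rw [e2, e, commn hi]
    group
  · intro x ha hb
    have key : ∀ y : S, act (h⁻¹ * y * h) x = x → act y (act h x) = act h x := by
      intro y hy
      have e3 : h * (h⁻¹ * y * h) = y * h := by group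
      calc act y (act h x) = act (y * h) x := (act_mul y h x).symm
        _ = act (h * (h⁻¹ * y * h)) x := by rw [e3]
        _ = act h (act (h⁻¹ * y * h) x) := act_mul h _ x
        _ = act h x := by rw [hy]
    have h1 := fix6n hi (key _ ha) (key _ hb)
    have h2 : act h⁻¹ (act h x) = x := by rw [← act_mul, inv_mul_cancel, act_one]
    rw [h1, act_zero] at h2
    exact h2.symm
  · intro x ha hb
    have key : ∀ y : S, rho (h⁻¹ * y * h) x = x → rho y (rho h x) = rho h x := by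
      intro y hy
      have e3 : h * (h⁻¹ * y * h) = y * h := by group
      calc rho y (rho h x) = rho (y * h) x := by rw [map_mul]; rfl
        _ = rho (h * (h⁻¹ * y * h)) x := by rw [e3]
        _ = rho h (rho (h⁻¹ * y * h) x) := by rw [map_mul rho h (h⁻¹ * y * h)]; rfl
        _ = rho h x := by rw [hy]
    have h1 := fix8n rho c hact hi (key _ ha) (key _ hb)
    exact (LinearEquiv.map_eq_zero_iff (rho h)).1 h1
  · intro Q hQ ha hb
    have key : ∀ y : S, (∀ x, Q (act (h⁻¹ * y * h) x) = Q x) → ∀ x, Q (act h⁻¹ (act y x)) = Q (act h⁻¹ x) := by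
      intro y hy x
      have e3 : h⁻¹ * y = h⁻¹ * y * h * h⁻¹ := by group
      rw [← act_mul, e3, act_mul, hy]
    refine fixQ hi hi0 (Q := fun x => Q (act h⁻¹ x)) ?_ (key _ ha) (key _ hb)
    intro x y
    show Q (act h⁻¹ (x + y)) = Q (act h⁻¹ x) + Q (act h⁻¹ y) + om x y
    rw [act_add, hQ, act_om]

end Cfsg.Agent.H612.Ore
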