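import Cfsg.Agent.H612.Ore.SpCover
import Cfsg.Agent.Co2Type.Coord

/-!
# Commutators in `Sp₆(2)` without common fixed vectors on the spin module

The spin module is given in the coordinates of `Co2Type.Coord` (`Crd.hact`).  `oreF_spin` : every `g` is a
commutator `[a, b]` such that `⟨a, b⟩` has no fixed vectors on the natural and on the spin module.
`odd_pair` : every `g` is a product of an element of order 15 and an element of order 15 or 7.
-/

set_option autoImplicit false

namespace Cfsg.Agent.H612.Ore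

open Cfsg Cfsg.Agent.ClassicalGeometry.SympBasic Cfsg.Agent.Co2Type.QModel Cfsg.Agent.Co2Type.Act
open Cfsg.Agent.Co2Type.Coord (uv)
open Cfsg.Agent.SporRec.TwoSp6.Sp (V S om tr act act_one act_mul act_ext act_add act_om act_tr enc enc_xor om_enc
  fN exists_enc conj_tr)

/-- the generators are those of `Co2Type` -/
theorem tv_eq (j : ℕ) (hj : j < 7) : tv j = transv (uv j) 1 := by
  have h : ∀ j < 7, enc (uc j) = uv j := by decide +kernel
  rw [tv, h j hj]
  rfl

theorem act_zero (g : S) : act g 0 = 0 := Matrix.mulVec_zero _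

/-- the vector with a code -/
def vec8 (v : ℕ) : Fin 8 → ZMod 2 := (dec v).v

theorem vec8_apply (v : ℕ) (i : Fin 8) : vec8 v i = if v.testBit i = true then 1 else 0 := rfl

theorem vec8_xor (u v : ℕ) : vec8 (u ^^^ v) = vec8 u + vec8 v := by
  funext i
  rw [Pi.add_apply, vec8_apply, vec8_apply, vec8_apply, Nat.testBit_xor]
  cases u.testBit i <;> cases v.testBit i <;> decide

theorem vec8_zero : vec8 0 = 0 := by
  funext i
  rw [vec8_apply, Nat.zero_testBit]
  rfl

theorem vec8_two_pow (i : Fin 8) : vec8 (2 ^ (i : ℕ)) = Pi.single i 1 := by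
  revert i
  decide +kernel

theorem vec8_inj {u v : ℕ} (hu : u < 256) (hv : v < 256) (h : vec8 u = vec8 v) : u = v := by
  apply Nat.eq_of_testBit_eq
  intro i
  by_cases hi : i < 8
  · have h1 := congrFun h ⟨i, hi⟩
    rw [vec8_apply, vec8_apply] at h1
    have h2 : ∀ a b : Bool, (if a = true then (1 : ZMod 2) else 0) = (if b = true then 1 else 0) → a = b := by
      decide
    exact h2 _ _ h1
  · have h3 : 256 ≤ 2 ^ i := by
      calc (256 : ℕ) = 2 ^ 8 := by norm_num
        _ ≤ 2 ^ i := Nat.pow_le_pow_right (by norm_num) (by omega)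
    rw [Nat.testBit_lt_two_pow (lt_of_lt_of_le hu h3), Nat.testBit_lt_two_pow (lt_of_lt_of_le hv h3)]

theorem exists_vec8 (x : Fin 8 → ZMod 2) : ∃ v, v < 256 ∧ vec8 v = x := by
  have hinj : Function.Injective (fun v : Fin 256 => vec8 v) := by
    intro u v h
    exact Fin.ext (vec8_inj u.2 v.2 h)
  have hbij := (Fintype.bijective_iff_injective_and_card (fun v : Fin 256 => vec8 v)).2 ⟨hinj, by
    rw [Fintype.card_fin, Fintype.card_pi]
    simp [ZMod.card]⟩
  obtain ⟨v, hv⟩ := hbij.2 x
  exact ⟨v, v.2, hv⟩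

/-- a linear map is determined by its code -/
theorem lin_mod {L : (Fin 8 → ZMod 2) →ₗ[ZMod 2] (Fin 8 → ZMod 2)} {m : ℕ}
    (h : ∀ i, i < 8 → L (vec8 (2 ^ i)) = vec8 (col 8 m i)) (v : ℕ) :
    ∀ k, k ≤ 8 → L (vec8 (v % 2 ^ k)) = vec8 (apk 8 m v k) := by
  intro k
  induction k with
  | zero => intro _; rw [pow_zero, Nat.mod_one, apk, vec8_zero, map_zero]
  | succ k ih =>
    intro hk
    have ih' := ih (by omega)
    rw [mod_succ, apk]
    cases v.testBit k
    · exact ih'
    · rw [cond_true, cond_true, vec8_xor, map_add, ih', h k (by omega), vec8_xor]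

theorem lin_apc {L : (Fin 8 → ZMod 2) →ₗ[ZMod 2] (Fin 8 → ZMod 2)} {m : ℕ}
    (h : ∀ i, i < 8 → L (vec8 (2 ^ i)) = vec8 (col 8 m i)) {v : ℕ} (hv : v < 256) :
    L (vec8 v) = vec8 (apc 8 m v) := by
  have h1 := lin_mod h v 8 le_rfl
  have h2 : v % 2 ^ 8 = v := Nat.mod_eq_of_lt hv
  rw [h2] at h1
  exact h1

/-- codes of the generators on the spin module -/
def g8s : List ℕ := [9277450623048745475, 13853125299270845185, 9277591635415009799, 11551768299616674321, 9819010544118792705,
  9241421690741989905, 11551768297464988161]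

/-- codes of the first words on the spin module -/
def a8s : List ℕ := [363118148916539016, 8602382111020958877, 17167027070003594261, 17212026160455049462, 12835383880652556155,
  14378428593925853264, 10529523140975007305, 11499653534774221662, 7428558023649477909, 14935474437356413152,
  16056362511457082971, 16014422215887246356, 2493211735729035175, 616571898629013584, 13340452865770254384,
  14378428593925853264, 17702124963066159411, 2954993589876281139, 17702124963066159411, 3044177422241196028,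
  4545563858092914398, 3741665918451978304, 233343941959291220, 17212063616864872151, 14481962687766417729,
  1525053677414864109, 14378372013180382856, 4545605558365781147, 2954991558321565066, 363118148916539016]

/-- codes of the second words on the spin module -/
def b8s : List ℕ := [9241421688590303745, 18429686861640167136, 5809661250099613986, 9277450623048745475, 11200093270561895034,
  11046644687029543072, 9667520563673851545, 12261293244455361014, 5809661249288012034, 4938215829205942530,
  5809661250099613986, 5809661250099613986, 3521832847668048293, 9241421691279909393, 4540725951525245430,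
  692869143178387616, 5503293124020442720, 1530751042217961009, 2894311023691299943, 11949223650394909115,
  1525032533086572834, 4468459248448148489, 4468459247743319051, 5809661249288012034, 2355559008045828615,
  2454745623845743502, 10685279171128893253, 3044195950409001078, 11551962019821645140, 77431234067850888]

theorem g8_img : ∀ j < 7, ∀ I : Fin 8, vec8 (col 8 (g8s.getD j 0) I) = (dec (img j I)).v := by decide +kernel

theorem apk_lt (n c v : ℕ) : ∀ k, apk n c v k < 2 ^ n := by
  intro k
  induction k with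
  | zero => exact Nat.two_pow_pos n
  | succ k ih =>
    rw [apk]
    cases v.testBit k
    · exact ih
    · exact Nat.xor_lt_two_pow ih (col_lt _ _ _)

/-- a word on codes -/
def wv8 (w : List ℕ) (v : ℕ) : ℕ := w.foldr (fun j v => apc 8 (g8s.getD j 0) v) v

theorem wv8_lt (w : List ℕ) {v : ℕ} (hv : v < 256) : wv8 w v < 256 := by
  cases w with
  | nil => exact hv
  | cons j w => exact apk_lt 8 _ _ 8

/-- a word has the code -/
def isCode8 (w : List ℕ) (m : ℕ) : Bool :=
  (w.all fun j => Nat.blt j 7) && (List.range 8).all fun i => wv8 w (2 ^ i) == col 8 m i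

section spin

variable {W : Type*} [AddCommGroup W] [Module (ZMod 2) W] (rho : S →* (W ≃ₗ[ZMod 2] W))
  (c : W ≃ₗ[ZMod 2] (Fin 8 → ZMod 2))

/-- the action in coordinates -/
def L8 (g : S) : (Fin 8 → ZMod 2) →ₗ[ZMod 2] (Fin 8 → ZMod 2) :=
  (c : W →ₗ[ZMod 2] (Fin 8 → ZMod 2)) ∘ₗ (rho g : W →ₗ[ZMod 2] W) ∘ₗ
    (c.symm : (Fin 8 → ZMod 2) →ₗ[ZMod 2] W)

theorem L8_apply (g : S) (x : Fin 8 → ZMod 2) : L8 rho c g x = c (rho g (c.symm x)) := rfl

theorem L8_one (x : Fin 8 → ZMod 2) : L8 rho c 1 x = x := by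
  rw [L8_apply, map_one]
  exact c.apply_symm_apply x

theorem L8_mul (g h : S) (x : Fin 8 → ZMod 2) : L8 rho c (g * h) x = L8 rho c g (L8 rho c h x) := by
  rw [L8_apply, L8_apply, L8_apply, map_mul, c.symm_apply_apply]
  rfl

variable (hact : ∀ j, j < 7 → ∀ I : Fin 8,
  c (rho (transv (uv j) 1) (c.symm (Pi.single I 1))) = (dec (img j I)).v)

include hact in
theorem L8_tv {j : ℕ} (hj : j < 7) {v : ℕ} (hv : v < 256) :
    L8 rho c (tv j) (vec8 v) = vec8 (apc 8 (g8s.getD j 0) v) := by
  apply lin_apc _ hv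
  intro i hi
  have h1 := g8_img j hj ⟨i, hi⟩
  have h2 := hact j hj ⟨i, hi⟩
  rw [show vec8 (2 ^ i) = Pi.single (⟨i, hi⟩ : Fin 8) 1 from vec8_two_pow ⟨i, hi⟩, L8_apply, tv_eq j hj, h2, ← h1]

include hact in
theorem L8_wd (w : List ℕ) (hw : ∀ j ∈ w, j < 7) {v : ℕ} (hv : v < 256) :
    L8 rho c (wd tv w) (vec8 v) = vec8 (wv8 w v) := by
  induction w with
  | nil => exact L8_one rho c _
  | cons j w ih =>
    rw [wd, L8_mul, ih (fun k hk => hw k (List.mem_cons_of_mem _ hk)),
      L8_tv rho c hact (hw j List.mem_cons_self) (wv8_lt w hv)]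
    rfl

include hact in
theorem L8_code {w : List ℕ} {m : ℕ} (h : isCode8 w m = true) {v : ℕ} (hv : v < 256) :
    L8 rho c (wd tv w) (vec8 v) = vec8 (apc 8 m v) := by
  rw [isCode8, Bool.and_eq_true] at h
  apply lin_apc _ hv
  intro i hi
  have h1 := eq_of_beq (List.all_eq_true.1 h.2 i (List.mem_range.2 hi))
  rw [L8_wd rho c hact w ?_ (two_pow_lt (n := 8) hi), h1]
  intro j hj
  have h2 := List.all_eq_true.1 h.1 j hj
  rwa [Nat.blt_eq] at h2

theorem codes8 : ((List.range 30).all fun i => isCode8 (aws.getD i []) (a8s.getD i 0) &&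
    isCode8 (bws.getD i []) (b8s.getD i 0)) = true := by decide +kernel

theorem fix8_chk : ((List.range 30).all fun i => (List.range 256).all fun v => (v == 0) ||
    !(apc 8 (a8s.getD i 0) v == v) || !(apc 8 (b8s.getD i 0) v == v)) = true := by decide +kernel

include hact in
/-- the two words have no common fixed vector on the spin module -/
theorem fix8 {i : ℕ} (hi : i < 30) {x : W} (ha : rho (wd tv (aws.getD i [])) x = x)
    (hb : rho (wd tv (bws.getD i [])) x = x) : x = 0 := by
  obtain ⟨v, hv, h0⟩ := exists_vec8 (c x)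
  have hc := List.all_eq_true.1 codes8 i (List.mem_range.2 hi)
  rw [Bool.and_eq_true] at hc
  have key : ∀ {w : List ℕ} {m : ℕ}, isCode8 w m = true → rho (wd tv w) x = x → apc 8 m v = v := by
    intro w m hm hx
    have hlt : apc 8 m v < 256 := apk_lt 8 _ _ 8
    apply vec8_inj hlt hv
    rw [← L8_code rho c hact hm hv, L8_apply, h0, c.symm_apply_apply, hx]
  have h := List.all_eq_true.1 (List.all_eq_true.1 fix8_chk i (List.mem_range.2 hi)) v (List.mem_range.2 hv)
  rw [key hc.1 ha, key hc.2 hb, beq_self_eq_true, Bool.not_true, Bool.or_false, Bool.or_false, beq_iff_eq] at h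
  rw [h, vec8_zero] at h0
  exact (c.map_eq_zero_iff).1 h0.symm

include hact in
/-- CONCRETE FORM: every element of `Sp₆(2)` is a commutator `[a, b]` such that `a`, `b` have no common nonzero
fixed vector, neither on the natural module nor on the spin module. -/
theorem oreF_spin (g : S) : ∃ a b : S, g = a * b * a⁻¹ * b⁻¹ ∧
    (∀ x : V, act a x = x → act b x = x → x = 0) ∧ (∀ x : W, rho a x = x → rho b x = x → x = 0) := by
  obtain ⟨i, hi, h, e⟩ := exists_rep30 g
  refine ⟨h⁻¹ * wd tv (aws.getD i []) * h, h⁻¹ * wd tv (bws.getD i []) * h, ?_, ?_, ?_⟩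
  · have e2 : g = h⁻¹ * (h * g * h⁻¹) * h := by group
    rw [e2, e, comm30 hi]
    group
  · intro x ha hb
    have key : ∀ y : S, act (h⁻¹ * y * h) x = x → act y (act h x) = act h x := by
      intro y hy
      have e3 : h * (h⁻¹ * y * h) = y * h := by group
      calc act y (act h x) = act (y * h) x := (act_mul y h x).symm
        _ = act (h * (h⁻¹ * y * h)) x := by rw [e3]
        _ = act h (act (h⁻¹ * y * h) x) := act_mul h _ x
        _ = act h x := by rw [hy]
    have h1 := fix6 hi (key _ ha) (key _ hb)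
    have h2 : act h⁻¹ (act h x) = x := by rw [← act_mul, inv_mul_cancel, act_one]
    rw [h1, act_zero] at h2
    exact h2.symm
  · intro x ha hb
    have key : ∀ y : S, rho (h⁻¹ * y * h) x = x → rho y (rho h x) = rho h x := by
      intro y hy
      have e3 : h * (h⁻¹ * y * h) = y * h := by group
      calc rho y (rho h x) = rho (y * h) x := by rw [map_mul]; rfl
        _ = rho (h * (h⁻¹ * y * h)) x := by rw [e3]
        _ = rho h (rho (h⁻¹ * y * h) x) := by rw [map_mul rho h (h⁻¹ * y * h)]; rfl
        _ = rho h x := by rw [hy]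
    have h1 := fix8 rho c hact hi (key _ ha) (key _ hb)
    exact (LinearEquiv.map_eq_zero_iff (rho h)).1 h1

end spin

/-! ## Products of two elements of odd order -/

/-- first word for the transvections -/
def tra : List ℕ := [3, 1, 2, 6, 5, 3, 4, 3, 1, 2, 0, 1]

/-- second word for the transvections -/
def trc : List ℕ := [1, 2, 6, 3, 4, 5, 0, 1, 2, 3, 2, 1, 0]

theorem tr_pair_chk : ((List.range 6).all fun k => (wv6 tra (wv6 trc (2 ^ k)) == st6 0 (2 ^ k)) &&
    (itc 12680951979 15 (2 ^ k) == 2 ^ k) && (itc 36474697964 7 (2 ^ k) == 2 ^ k)) = true := by decide +kernel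

theorem tra_code : isCode tra 12680951979 = true := by decide +kernel

theorem trc_code : isCode trc 36474697964 = true := by decide +kernel

theorem tra_ne (m : ℕ) (hm : m = 3 ∨ m = 5) : wd tv tra ^ m ≠ 1 := by
  intro he
  have h3 : ∀ k, k < 6 → itc 12680951979 m (2 ^ k) = 2 ^ k := by
    intro k hk
    rw [← (ap_pow (rep_wd tra_code) m (two_pow_lt (n := 6) hk)).1, he, spAct.one _ (two_pow_lt (n := 6) hk)]
  rcases hm with rfl | rfl
  · have h4 : ¬ ∀ k, k < 6 → itc 12680951979 3 (2 ^ k) = 2 ^ k := by decide +kernel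
    exact h4 h3
  · have h4 : ¬ ∀ k, k < 6 → itc 12680951979 5 (2 ^ k) = 2 ^ k := by decide +kernel
    exact h4 h3

theorem dvd15 {p : ℕ} (hp : p.Prime) (hd : p ∣ 15) : p = 3 ∨ p = 5 := by
  have h2 : p ∣ 3 * 5 := hd
  rcases (Nat.Prime.dvd_mul hp).1 h2 with h3 | h3
  · exact Or.inl ((Nat.prime_dvd_prime_iff_eq hp Nat.prime_three).1 h3)
  · exact Or.inr ((Nat.prime_dvd_prime_iff_eq hp Nat.prime_five).1 h3)

theorem tra_order : orderOf (wd tv tra) = 15 := by
  apply orderOf_eq_of_pow_and_pow_div_prime (by norm_num)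
  · apply spAct.ext
    intro k hk
    have hk2 := two_pow_lt (n := 6) hk
    have h := List.all_eq_true.1 tr_pair_chk k (List.mem_range.2 hk)
    rw [Bool.and_eq_true, Bool.and_eq_true] at h
    rw [(ap_pow (rep_wd tra_code) 15 hk2).1, spAct.one _ hk2]
    exact eq_of_beq h.1.2
  · intro p hp hd
    rcases dvd15 hp hd with rfl | rfl
    · exact tra_ne 5 (Or.inr rfl)
    · exact tra_ne 3 (Or.inl rfl)

theorem trc_order : orderOf (wd tv trc) = 7 := by
  have : Fact (Nat.Prime 7) := ⟨by norm_num⟩
  apply orderOf_eq_prime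
  · apply spAct.ext
    intro k hk
    have hk2 := two_pow_lt (n := 6) hk
    have h := List.all_eq_true.1 tr_pair_chk k (List.mem_range.2 hk)
    rw [Bool.and_eq_true, Bool.and_eq_true] at h
    rw [(ap_pow (rep_wd trc_code) 7 hk2).1, spAct.one _ hk2]
    exact eq_of_beq h.2
  · intro he
    have h1 : spAct.ap (wd tv trc) 1 = col 6 36474697964 0 := rep_wd trc_code 0 (by norm_num)
    rw [he, spAct.one _ (by norm_num)] at h1
    revert h1
    decide +kernel

theorem tr_pair : wd tv (rws.getD 1 []) = wd tv tra * wd tv trc := by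
  rw [rws_one]
  apply spAct.ext
  intro k hk
  have hk2 := two_pow_lt (n := 6) hk
  have h := List.all_eq_true.1 tr_pair_chk k (List.mem_range.2 hk)
  rw [Bool.and_eq_true, Bool.and_eq_true] at h
  have h1 : spAct.ap (wd tv trc) (2 ^ k) < 64 := spAct.lt _ _ hk2
  rw [spAct.mul _ _ _ hk2, ap_wd trc hk2] at *
  rw [ap_wd tra h1, eq_of_beq h.1.1, ← ap_tv 0 hk2]
  rfl

/-- every element of `Sp₆(2)` is the product of an element of order 15 and an element of order 15 or 7 -/
theorem odd_pair (g : S) : ∃ a b : S, g = a * b ∧ orderOf a = 15 ∧ (orderOf b = 15 ∨ orderOf b = 7) := by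
  obtain ⟨i, hi, h, e⟩ := exists_rep30 g
  have hc : ∀ y : S, orderOf (h⁻¹ * y * h) = orderOf y := by
    intro y
    have h3 : h⁻¹ * y * h = (MulAut.conj h⁻¹) y := by rw [MulAut.conj_apply, inv_inv]
    rw [h3, MulEquiv.orderOf_eq]
  have e2 : g = h⁻¹ * (h * g * h⁻¹) * h := by group
  by_cases h1 : i = 1
  · subst h1
    refine ⟨h⁻¹ * wd tv tra * h, h⁻¹ * wd tv trc * h, ?_, ?_, Or.inr ?_⟩
    · rw [e2, e, tr_pair]; group
    · rw [hc, tra_order]
    · rw [hc, trc_order]
  · refine ⟨h⁻¹ * wd tv (aws.getD i []) * h,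
      h⁻¹ * (wd tv (bws.getD i []) * (wd tv (aws.getD i []))⁻¹ * (wd tv (bws.getD i []))⁻¹) * h, ?_, ?_, Or.inl ?_⟩
    · rw [e2, e, comm30 hi]; group
    · rw [hc, order15 hi h1]
    · rw [hc, ← MulAut.conj_apply, MulEquiv.orderOf_eq, orderOf_inv, order15 hi h1]

end Cfsg.Agent.H612.Ore
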